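import Cfsg.Agent.H80.Fi24T.Cent
import Cfsg.Agent.H75.U6Quot
import Cfsg.Agent.H7.U6Fibre
import Cfsg.Agent.H16.Fi24.U6Fused

/-!
The four-group with centraliser covering the unitary group.
-/

set_option autoImplicit false
set_option maxRecDepth 100000

namespace H80.Fi24T

open H16.Fi24 Cfsg

theorem exists_four {G : Type*} [Group G] [Finite G] {z : G}
    {Q : Subgroup (Subgroup.centralizer ({z} : Set G))} [Q.Normal]
    (hF : IsOfLargeFischerTypeAt z Q) : ∃ C : U6Ctx z Q, U6Four C.four := by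
  obtain ⟨C⟩ := nonempty_U6Ctx hF
  obtain ⟨_, h⟩ := U6Ctx.exists_gloc C C.exists_fused
  obtain ⟨-, F, i1, i2, hc, hiso⟩ := H75.U6Quot.quotient_facts h
  exact ⟨C, (H75.U6Quot.quasisimple h).1, H75.U6Quot.fourIn_normal C, F, i1, i2, hc, hiso⟩

end H80.Fi24T
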