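import Cfsg.Agent.H80.Fi24T.Assemble

/-!
The centraliser of an involution of `Q` not conjugate to the central one.
-/

set_option autoImplicit false
set_option maxRecDepth 100000

namespace H80.Fi24T

open H16.Fi24 H7.Fi24L Cfsg

universe u

variable {G : Type u} [Group G] [Finite G] {z : G}
  {Q : Subgroup (Subgroup.centralizer ({z} : Set G))} [Q.Normal]

theorem subgroupOf_zpowers {H : Subgroup G} {x : G} (hx : x ∈ H) :
    (Subgroup.zpowers x).subgroupOf H = Subgroup.zpowers (⟨x, hx⟩ : H) := by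
  ext y
  rw [Subgroup.mem_subgroupOf, Subgroup.mem_zpowers_iff, Subgroup.mem_zpowers_iff]
  exact exists_congr fun k => by rw [Subtype.ext_iff, Subgroup.coe_zpow]

/-- The centraliser is `2.Fi₂₂.2`. -/
theorem centralizer_structure (hF : IsOfLargeFischerTypeAt z Q) (C : U6Ctx z Q) (hU : U6Four C.four)
    (t : G) (htQ : ∃ htc : t ∈ Subgroup.centralizer ({z} : Set G),
      (⟨t, htc⟩ : Subgroup.centralizer ({z} : Set G)) ∈ Q) (ht2 : orderOf t = 2) (ht : ¬ IsConj z t)
    (K : Subgroup ↥(Subgroup.centralizer ({t} : Set G)))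
    (hK : K = Cfsg.generalizedFittingSubgroup ↥(Subgroup.centralizer ({t} : Set G)))
    [hn : ((Subgroup.zpowers t).subgroupOf (Subgroup.centralizer ({t} : Set G))).Normal] :
    Cfsg.IsQuasisimple ↥K ∧ K.index = 2 ∧ (∃ htc : t ∈ Subgroup.centralizer ({t} : Set G),
      (⟨t, htc⟩ : ↥(Subgroup.centralizer ({t} : Set G))) ∈ K) ∧
      Nonempty (↥(Subgroup.centralizer ({t} : Set G)) ⧸
        (Subgroup.zpowers t).subgroupOf (Subgroup.centralizer ({t} : Set G)) ≃* MulAut Cfsg.Spor.Fi22) := by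
  obtain ⟨htc, htQ'⟩ := htQ
  obtain ⟨D, S, hSt, hU'⟩ := exists_dat hF C hU htQ' ht2 ht
  change (S.t : G) = t at hSt
  subst hSt
  obtain ⟨hidx, -, -, hfit, -, htk, hd, hquot⟩ := S.facts hF hU'
  subst hK
  have hself : (S.t : G) ∈ S.X := Subgroup.mem_centralizer_singleton_iff.2 rfl
  have e : generalizedFittingSubgroup ↥(Subgroup.centralizer ({(S.t : G)} : Set G)) = S.V.ker := hfit
  rw [e]
  refine ⟨hd.qs, hidx, ⟨hself, htk⟩, ?_⟩
  have hz' := subgroupOf_zpowers hself
  haveI : (Subgroup.zpowers (⟨(S.t : G), hself⟩ : S.X)).Normal := hz' ▸ hn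
  obtain ⟨f⟩ := hquot
  exact ⟨(QuotientGroup.quotientMulEquivOfEq hz').trans f⟩

end H80.Fi24T
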