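import Cfsg.Agent.S1713
import Cfsg.Agent.S5377
import Cfsg.Agent.H33.Triple.PairFi22
import Cfsg.Agent.H33.Triple.Helpers
import Cfsg.Agent.H50.Simple
import Cfsg.Agent.CompLayer

/-!
A group with a central involution and a four-group whose centraliser covers `PSU(6,2)`, and a group
containing such a group with index two.
-/

set_option autoImplicit false
set_option maxRecDepth 100000
set_option linter.unusedSectionVars false

namespace H80.Fi24T

open Cfsg

universe u

/-- The centraliser is quasisimple and covers the unitary group modulo the subgroup. -/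
def U6Four {X : Type u} [Group X] (E : Subgroup X) : Prop :=
  IsQuasisimple ↥(Subgroup.centralizer (E : Set X)) ∧
    ∃ (_ : (E.subgroupOf (Subgroup.centralizer (E : Set X))).Normal) (F : Type) (_ : Field F)
      (_ : Fintype F), Fintype.card F = 4 ∧
      Nonempty (↥(Subgroup.centralizer (E : Set X)) ⧸ E.subgroupOf (Subgroup.centralizer (E : Set X)) ≃*
        Cfsg.PSU 6 F 2)

section hom

variable {K X : Type u} [Group K] [Group X] (φ : K →* X) (hφ : Function.Injective φ) {E' : Subgroup K}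
  {E : Subgroup X} (hE : E'.map φ = E) (hr : Subgroup.centralizer (E : Set X) ≤ φ.range)
include hφ hE hr

theorem U6Four.of_hom (h : U6Four E) : U6Four E' := by
  obtain ⟨hq, hn, F, i1, i2, hc, ⟨e⟩⟩ := h
  set C' := Subgroup.centralizer (E' : Set K)
  set C := Subgroup.centralizer (E : Set X)
  have hmem : ∀ k, φ k ∈ C ↔ k ∈ C' := by
    intro k
    rw [Subgroup.mem_centralizer_iff, Subgroup.mem_centralizer_iff]
    constructor
    · intro h e he
      refine hφ ?_
      rw [map_mul, map_mul]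
      exact h _ (hE ▸ Subgroup.mem_map_of_mem φ he)
    · intro h e he
      rw [SetLike.mem_coe, ← hE, Subgroup.mem_map] at he
      obtain ⟨e', he', rfl⟩ := he
      rw [← map_mul, ← map_mul, h e' he']
  let f : C' →* C := (φ.comp C'.subtype).codRestrict C fun k => (hmem k).2 k.2
  have hf : Function.Bijective f := by
    refine ⟨fun a b e => Subtype.ext (hφ (congrArg Subtype.val e :)), fun c => ?_⟩
    obtain ⟨k, hk⟩ := hr c.2
    exact ⟨⟨k, (hmem k).1 (hk ▸ c.2)⟩, Subtype.ext hk⟩
  let fe : C' ≃* C := MulEquiv.ofBijective f hf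
  have hmap : (E'.subgroupOf C').map fe = E.subgroupOf C := by
    ext c
    constructor
    · rintro ⟨k, hk, rfl⟩
      exact (hE ▸ Subgroup.mem_map_of_mem φ (Subgroup.mem_subgroupOf.1 hk) : φ k ∈ E)
    · intro hcE
      obtain ⟨k, hk⟩ := hf.2 c
      refine ⟨k, ?_, hk⟩
      have h1 : φ k ∈ E := by
        have h2 : (φ k : X) = c := congrArg Subtype.val hk
        rw [h2]; exact hcE
      rw [← hE, Subgroup.mem_map_iff_mem hφ] at h1
      exact h1
  have hn' : (E'.subgroupOf C').Normal := by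
    rw [← Subgroup.comap_map_eq_self_of_injective (f := (fe : C' →* C)) fe.injective (E'.subgroupOf C')]
    have : (E.subgroupOf C).Normal := hn
    rw [show (E'.subgroupOf C').map (fe : C' →* C) = E.subgroupOf C from hmap]
    infer_instance
  exact ⟨Comp.isQuasisimple_of_equiv fe.symm hq, hn', F, i1, i2, hc,
    ⟨(QuotientGroup.congr (E'.subgroupOf C') (E.subgroupOf C) fe hmap).trans e⟩⟩

end hom

theorem quasisimple_fi22 : IsQuasisimple Cfsg.Spor.Fi22 := by
  haveI := H33.Triple.simple_fi22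
  exact ⟨⟨H33.Triple.perfect_fi22⟩,
    ((QuotientGroup.quotientMulEquivOfEq H33.Triple.center_fi22).trans
      QuotientGroup.quotientBot).isSimpleGroup⟩

/-- The facts about the smaller group. -/
structure FiData {K : Type u} [Group K] (t : K) : Prop where
  qs : IsQuasisimple K
  center : Subgroup.center K = Subgroup.zpowers t
  quot : ∃ _ : (Subgroup.zpowers t).Normal, Nonempty (K ⧸ Subgroup.zpowers t ≃* Cfsg.Spor.Fi22) ∧
    (∃ D : Set (K ⧸ Subgroup.zpowers t), IsThreeTranspositionClass D ∧ IsOfTypeM22 _ D) ∧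
    ∃ d' : K ⧸ Subgroup.zpowers t, orderOf d' = 2 ∧
      IsQuasisimple ↥(Subgroup.centralizer ({d'} : Set _)) ∧
      (∃ (F : Type) (_ : Field F) (_ : Fintype F), Fintype.card F = 4 ∧
        ∃ _ : ((Subgroup.zpowers d').subgroupOf (Subgroup.centralizer ({d'} : Set _))).Normal,
          Nonempty (↥(Subgroup.centralizer ({d'} : Set _)) ⧸
            (Subgroup.zpowers d').subgroupOf (Subgroup.centralizer ({d'} : Set _)) ≃* Cfsg.PSU 6 F 2)) ∧
      ∃ g, g * d' * g⁻¹ ∈ Subgroup.centralizer ({d'} : Set _) ∧ g * d' * g⁻¹ ≠ d'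

theorem mem_zpowers_two {X : Type u} [Group X] {t : X} (ht : t * t = 1) {x : X} :
    x ∈ Subgroup.zpowers t ↔ x = 1 ∨ x = t := by
  constructor
  · rintro ⟨i, rfl⟩
    rcases Int.even_or_odd' i with ⟨j, rfl | rfl⟩
    · exact Or.inl (by simp only [zpow_mul, zpow_two, ht, one_zpow])
    · exact Or.inr (by simp only [zpow_add, zpow_mul, zpow_two, ht, one_zpow, one_mul, zpow_one])
  · rintro (rfl | rfl)
    exacts [one_mem _, Subgroup.mem_zpowers _]

variable {K : Type u} [Group K] [Finite K] {t s : K} {E : Subgroup K}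

theorem fiData (ht : t * t = 1) (htc : ∀ x, x * t = t * x) (hs : s * s = 1) (hst : s ∉ Subgroup.zpowers t)
    (hE : ∀ x, x ∈ E ↔ x = 1 ∨ x = t ∨ x = s ∨ x = t * s) (hU : U6Four E)
    (hN : ∀ k : K, k * s * k⁻¹ ≠ t * s)
    (hmate : ∃ g : K, (g * s * g⁻¹) * s = s * (g * s * g⁻¹) ∧ g * s * g⁻¹ ∉ E) :
    FiData t := by
  classical
  obtain ⟨hq, hn, F, i1, i2, hcard, ⟨e⟩⟩ := hU
  have hT : (Subgroup.zpowers t).Normal := ⟨fun n hn g => by
    rcases (mem_zpowers_two ht).1 hn with rfl | rfl
    · rw [mul_one, mul_inv_cancel]; exact one_mem _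
    · rw [htc g, mul_inv_cancel_right]; exact Subgroup.mem_zpowers _⟩
  set T := Subgroup.zpowers t with hTdef
  have htT : t ∈ T := Subgroup.mem_zpowers _
  set C := Subgroup.centralizer (E : Set K) with hCdef
  have hsC : ∀ k : K, k ∈ C ↔ k * s = s * k := fun k => by
    rw [hCdef, Subgroup.mem_centralizer_iff]
    refine ⟨fun h => (h s ((hE s).2 (Or.inr (Or.inr (Or.inl rfl))))).symm, fun h x hx => ?_⟩
    rcases (hE x).1 hx with rfl | rfl | rfl | rfl
    · rw [one_mul, mul_one]
    · exact (htc k).symm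
    · exact h.symm
    · rw [mul_assoc, ← h, ← mul_assoc, ← htc k, mul_assoc]
  let mk := QuotientGroup.mk' T
  set d := mk s with hddef
  have hd1 : d ≠ 1 := fun h => hst ((QuotientGroup.eq_one_iff s).1 h)
  have hd : orderOf d = 2 := by
    have := Fact.mk Nat.prime_two
    refine orderOf_eq_prime ?_ hd1
    rw [hddef, ← map_pow, pow_two, hs, map_one]
  have hlift : ∀ k, mk k * d = d * mk k ↔ k ∈ C := by
    intro k
    rw [hsC, hddef, ← map_mul, ← map_mul]
    refine ⟨fun h => ?_, fun h => congrArg mk h⟩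
    obtain ⟨w, hw, e⟩ := (QuotientGroup.mk'_eq_mk' T).1 h
    rcases (mem_zpowers_two ht).1 hw with h1 | h1 <;> rw [h1] at e
    · rwa [mul_one] at e
    · refine absurd ?_ (hN k)
      have e2 : k * s = s * k * t := by
        rw [← e, mul_assoc (k * s), ht, mul_one]
      rw [e2, htc (s * k), ← mul_assoc, mul_inv_cancel_right]
  set Cd := Subgroup.centralizer ({d} : Set (K ⧸ T)) with hCd
  let π : C →* Cd := (mk.comp C.subtype).codRestrict Cd fun k =>
    Subgroup.mem_centralizer_singleton_iff.2 ((hlift k).2 k.2)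
  have hπ : Function.Surjective π := by
    rintro ⟨y, hy⟩
    obtain ⟨k, rfl⟩ := QuotientGroup.mk'_surjective T y
    exact ⟨⟨k, (hlift k).1 (Subgroup.mem_centralizer_singleton_iff.1 hy)⟩, rfl⟩
  have hdC : d ∈ Cd := Subgroup.mem_centralizer_singleton_iff.2 rfl
  haveI : Nontrivial Cd := ⟨⟨⟨d, hdC⟩, 1, fun h => hd1 (congrArg Subtype.val h)⟩⟩
  have hqd : IsQuasisimple Cd := Comp.isQuasisimple_of_surjective hq π hπ
  have hd2 : d * d = 1 := by rw [← pow_two, ← hd, pow_orderOf_eq_one]
  haveI hnd : ((Subgroup.zpowers d).subgroupOf Cd).Normal := ⟨fun n hn g => by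
    rw [Subgroup.mem_subgroupOf] at hn ⊢
    rcases (mem_zpowers_two hd2).1 hn with h | h <;> rw [Subgroup.coe_mul, Subgroup.coe_mul, h]
    · rw [mul_one, Subgroup.coe_inv, mul_inv_cancel]; exact one_mem _
    · rw [Subgroup.mem_centralizer_singleton_iff.1 g.2, Subgroup.coe_inv, mul_inv_cancel_right]
      exact Subgroup.mem_zpowers _⟩
  let ψ : C →* Cd ⧸ (Subgroup.zpowers d).subgroupOf Cd := (QuotientGroup.mk' _).comp π
  have hψ : E.subgroupOf C = ψ.ker := by
    ext k
    rw [MonoidHom.mem_ker, Subgroup.mem_subgroupOf]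
    show (k : K) ∈ E ↔ (QuotientGroup.mk (π k) : Cd ⧸ (Subgroup.zpowers d).subgroupOf Cd) = 1
    rw [QuotientGroup.eq_one_iff, Subgroup.mem_subgroupOf]
    show (k : K) ∈ E ↔ mk (k : K) ∈ Subgroup.zpowers d
    rw [mem_zpowers_two hd2, hE, hddef]
    constructor
    · rintro (h | h | h | h) <;> rw [h]
      · exact Or.inl (map_one _)
      · exact Or.inl ((QuotientGroup.eq_one_iff t).2 htT)
      · exact Or.inr rfl
      · refine Or.inr ?_
        rw [map_mul, (QuotientGroup.eq_one_iff t).2 htT |> fun h => (h : mk t = 1), one_mul]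
    · rintro (h | h)
      · rcases (mem_zpowers_two ht).1 ((QuotientGroup.eq_one_iff (k : K)).1 h) with h | h
        · exact Or.inl h
        · exact Or.inr (Or.inl h)
      · obtain ⟨w, hw, e⟩ := (QuotientGroup.mk'_eq_mk' T).1 h.symm
        rcases (mem_zpowers_two ht).1 hw with rfl | rfl
        · exact Or.inr (Or.inr (Or.inl (by rw [← e, mul_one])))
        · exact Or.inr (Or.inr (Or.inr (by rw [← e, htc s])))
  let eU := ((QuotientGroup.quotientKerEquivOfSurjective ψ
    ((QuotientGroup.mk'_surjective _).comp hπ)).symm.trans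
      (QuotientGroup.quotientMulEquivOfEq hψ.symm)).trans e
  obtain ⟨g, hgc, hgne⟩ := hmate
  have hnwc : ∃ g : K ⧸ T, g * d * g⁻¹ ∈ Cd ∧ g * d * g⁻¹ ≠ d := by
    refine ⟨mk g, ?_, ?_⟩
    · rw [hCd, Subgroup.mem_centralizer_singleton_iff, hddef]
      simp only [← map_inv, ← map_mul, hgc]
    · rw [hddef]
      simp only [← map_inv, ← map_mul]
      intro h
      obtain ⟨w, hw, e⟩ := (QuotientGroup.mk'_eq_mk' T).1 h.symm
      rcases (mem_zpowers_two ht).1 hw with rfl | rfl
      · exact hgne ((hE _).2 (Or.inr (Or.inr (Or.inl (by rw [← e, mul_one])))))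
      · exact hgne ((hE _).2 (Or.inr (Or.inr (Or.inr (by rw [← e, htc s])))))
  obtain ⟨f⟩ := Cfsg.Agent.S1713.result d hd hqd F hcard eU hnwc
  obtain ⟨hD3, hM⟩ := Cfsg.Agent.S5377.result d hd hqd F hcard eU hnwc
  have hTc : T ≤ Subgroup.center K := by
    intro x hx
    rcases (mem_zpowers_two ht).1 hx with rfl | rfl
    · exact one_mem _
    · exact Subgroup.mem_center_iff.2 htc
  have hperfQ : commutator (K ⧸ T) = ⊤ := Comp.perfect_of_quasisimple
    (Comp.isQuasisimple_of_equiv f.symm quasisimple_fi22)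
  have htK : t ∈ commutator K := by
    have h1 : (⟨t, (hsC t).2 (htc s).symm⟩ : C) ∈ commutator C := by
      rw [Comp.perfect_of_quasisimple hq]; exact Subgroup.mem_top _
    have h2 := Subgroup.mem_map_of_mem C.subtype h1
    rw [commutator_def, Subgroup.map_commutator] at h2
    exact Subgroup.commutator_mono le_top le_top h2
  have hperf : commutator K = ⊤ := by
    refine eq_top_iff.2 fun x _ => ?_
    have h1 : mk x ∈ (commutator K).map mk := by
      rw [commutator_def, Subgroup.map_commutator,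
        Subgroup.map_top_of_surjective mk (QuotientGroup.mk'_surjective T), ← commutator_def, hperfQ]
      exact Subgroup.mem_top _
    obtain ⟨y, hy, e⟩ := h1
    obtain ⟨w, hw, rfl⟩ := (QuotientGroup.mk'_eq_mk' T).1 e
    refine mul_mem hy ?_
    rcases (mem_zpowers_two ht).1 hw with rfl | rfl
    exacts [one_mem _, htK]
  have hqs : IsQuasisimple K := Comp.isQuasisimple_of_ker_le_center hperf quasisimple_fi22
    ((f : K ⧸ T →* Cfsg.Spor.Fi22).comp mk) (f.surjective.comp (QuotientGroup.mk'_surjective T)) (by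
      intro x hx
      refine hTc ((QuotientGroup.eq_one_iff x).1 ?_)
      exact f.injective (by rw [map_one]; exact hx))
  refine ⟨hqs, le_antisymm (fun x hx => ?_) hTc, hT, ⟨f⟩, ⟨_, hD3, hM⟩,
    d, hd, hqd, ⟨F, i1, i2, hcard, hnd, ⟨eU⟩⟩, hnwc⟩
  refine (QuotientGroup.eq_one_iff x).1 (f.injective ?_)
  rw [map_one]
  refine Subgroup.mem_bot.1 (H33.Triple.center_fi22 ▸ Subgroup.mem_center_iff.2 fun y => ?_)
  obtain ⟨y', rfl⟩ := f.surjective y
  obtain ⟨k, rfl⟩ := QuotientGroup.mk'_surjective T y'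
  rw [← map_mul, ← map_mul]
  exact congrArg (fun r => f (mk r)) (Subgroup.mem_center_iff.1 hx k)

/-- The facts about the larger group. -/
theorem half {X : Type u} [Group X] [Finite X] {t s : X} {E : Subgroup X} (ht : t * t = 1)
    (htc : ∀ x, x * t = t * x) (hs : s * s = 1) (hst : s ∉ Subgroup.zpowers t)
    (hE : ∀ x, x ∈ E ↔ x = 1 ∨ x = t ∨ x = s ∨ x = t * s) (hU : U6Four E)
    (V : X →* Multiplicative (ZMod 2)) (y : X) (hy : V y ≠ 1) (hys : y * s * y⁻¹ = t * s) (q : X)
    (hqc : (q * s * q⁻¹) * s = s * (q * s * q⁻¹)) (hqE : q * s * q⁻¹ ∉ E) :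
    V.ker.index = 2 ∧ Subgroup.centralizer (E : Set X) ≤ V.ker ∧
      Subgroup.centralizer (V.ker : Set X) ≤ V.ker ∧
      generalizedFittingSubgroup X = V.ker ∧
      ∃ htk : t ∈ V.ker, FiData (⟨t, htk⟩ : V.ker) ∧
        ∀ [(Subgroup.zpowers t).Normal], Nonempty (X ⧸ Subgroup.zpowers t ≃* MulAut Cfsg.Spor.Fi22) := by
  classical
  set C := Subgroup.centralizer (E : Set X) with hC
  have hsC : ∀ k : X, k ∈ C ↔ k * s = s * k := fun k => by
    rw [hC, Subgroup.mem_centralizer_iff]
    refine ⟨fun h => (h s ((hE s).2 (Or.inr (Or.inr (Or.inl rfl))))).symm, fun h x hx => ?_⟩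
    rcases (hE x).1 hx with rfl | rfl | rfl | rfl
    · rw [one_mul, mul_one]
    · exact (htc k).symm
    · exact h.symm
    · rw [mul_assoc, ← h, ← mul_assoc, ← htc k, mul_assoc]
  have hCV : C ≤ V.ker := by
    intro x hx
    have h1 : (⟨x, hx⟩ : C) ∈ commutator C := by
      rw [Comp.perfect_of_quasisimple hU.1]; exact Subgroup.mem_top _
    exact Abelianization.commutator_subset_ker (V.comp C.subtype) h1
  have hidx : V.ker.index = 2 := by
    have h2 : ∀ a : Multiplicative (ZMod 2), a = 1 ∨ a = Multiplicative.ofAdd 1 := by decide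
    have hy' := (h2 (V y)).resolve_left hy
    rw [Subgroup.index_ker, MonoidHom.range_eq_top.2 (fun a => by
      rcases h2 a with rfl | rfl
      · exact ⟨1, map_one _⟩
      · exact ⟨y, hy'⟩), Subgroup.card_top, Nat.card_eq_fintype_card]
    rfl
  have hEC : E ≤ C := fun x hx => (hsC x).2 (by
    rcases (hE x).1 hx with rfl | rfl | rfl | rfl
    · rw [one_mul, mul_one]
    · exact (htc s).symm
    · rfl
    · rw [mul_assoc, ← mul_assoc s t, htc s, mul_assoc])
  have htk : t ∈ V.ker := hCV ((hsC t).2 (htc s).symm)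
  have hsk : s ∈ V.ker := hCV ((hsC s).2 rfl)
  let E' := E.subgroupOf V.ker
  have hU' : U6Four E' := U6Four.of_hom V.ker.subtype V.ker.subtype_injective
    (Subgroup.map_subgroupOf_eq_of_le (hEC.trans hCV)) (by rw [Subgroup.range_subtype]; exact hCV) hU
  have hK : FiData (⟨t, htk⟩ : V.ker) := by
    refine fiData (s := ⟨s, hsk⟩) (E := E') (Subtype.ext ht) (fun x => Subtype.ext (htc x))
      (Subtype.ext hs) (fun h => hst ?_) (fun x => ?_) hU' (fun k hk => ?_) ?_
    · obtain ⟨i, hi⟩ := h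
      exact ⟨i, congrArg Subtype.val hi⟩
    · rw [Subgroup.mem_subgroupOf, hE]
      simp only [Subtype.ext_iff, Subgroup.coe_one, Subgroup.coe_mul]
    · have hk' : (k : X) * s * (k : X)⁻¹ = t * s := congrArg Subtype.val hk
      refine hy ?_
      have h1 : (k : X)⁻¹ * y ∈ C := (hsC _).2 (by
        refine mul_inv_eq_iff_eq_mul.1 ?_
        calc (k : X)⁻¹ * y * s * ((k : X)⁻¹ * y)⁻¹ = (k : X)⁻¹ * (y * s * y⁻¹) * k := by group
          _ = (k : X)⁻¹ * ((k : X) * s * (k : X)⁻¹) * k := by rw [hys, hk']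
          _ = s := by group)
      have h2 := mul_mem k.2 (hCV h1)
      rwa [mul_inv_cancel_left, MonoidHom.mem_ker] at h2
    · by_cases hqk : q ∈ V.ker
      · exact ⟨⟨q, hqk⟩, Subtype.ext hqc, fun h => hqE h⟩
      · have hqy : q * y ∈ V.ker :=
          (Subgroup.mul_mem_iff_of_index_two hidx).2 (iff_of_false hqk (fun h => hy h))
        have e : q * y * s * (q * y)⁻¹ = t * (q * s * q⁻¹) := by
          calc q * y * s * (q * y)⁻¹ = q * (y * s * y⁻¹) * q⁻¹ := by group
            _ = q * t * (s * q⁻¹) := by rw [hys]; group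
            _ = _ := by rw [htc q]; group
        refine ⟨⟨_, hqy⟩, Subtype.ext ?_, fun h => hqE ?_⟩
        · show q * y * s * (q * y)⁻¹ * s = s * (q * y * s * (q * y)⁻¹)
          rw [e, mul_assoc, hqc, ← mul_assoc, ← htc s, mul_assoc]
        · have h' : q * y * s * (q * y)⁻¹ ∈ E := h
          rw [e] at h'
          exact (Subgroup.mul_mem_cancel_left _ ((hE t).2 (Or.inr (Or.inl rfl)))).1 h'
  have hcen : Subgroup.centralizer (V.ker : Set X) ≤ V.ker := fun x hx =>
    hCV ((hsC x).2 (Subgroup.mem_centralizer_iff.1 hx s hsk).symm)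
  refine ⟨hidx, hCV, hcen, H33.Triple.fstar_eq _ hK.qs hcen, htk, hK, ?_⟩
  intro hn
  obtain ⟨hnk, ⟨f⟩, -, -⟩ := hK.quot
  haveI := hnk
  let ψ : V.ker →* Cfsg.Spor.Fi22 := f.toMonoidHom.comp (QuotientGroup.mk' _)
  have hψs : Function.Surjective ψ := f.surjective.comp (QuotientGroup.mk'_surjective _)
  have hψk : ψ.ker = Subgroup.center V.ker := by
    rw [hK.center]
    ext x
    rw [MonoidHom.mem_ker]
    exact ⟨fun h => (QuotientGroup.eq_one_iff x).1 (f.injective (h.trans (map_one f).symm)),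
      fun h => (congrArg f ((QuotientGroup.eq_one_iff x).2 h)).trans (map_one f)⟩
  obtain ⟨Θ, hΘ⟩ := H33.Triple.exists_quot_action (MulAut.conjNormal (H := V.ker)) ψ hψs hψk
    (Comp.perfect_of_quasisimple hK.qs)
  have hker : Θ.ker = Subgroup.zpowers t := by
    rw [hΘ]
    ext x
    rw [MonoidHom.mem_ker]
    constructor
    · intro h
      have hx : x ∈ Subgroup.centralizer (V.ker : Set X) := Subgroup.mem_centralizer_iff.2 fun k hk => by
        have := congrArg (fun a : MulAut V.ker => ((a ⟨k, hk⟩ : V.ker) : X)) h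
        simp only [MulAut.conjNormal_apply, MulAut.one_apply] at this
        exact (mul_inv_eq_iff_eq_mul.1 this).symm
      have hxc : (⟨x, hcen hx⟩ : V.ker) ∈ Subgroup.center V.ker := Subgroup.mem_center_iff.2 fun k =>
        Subtype.ext (Subgroup.mem_centralizer_iff.1 hx k k.2)
      rw [hK.center] at hxc
      obtain ⟨i, hi⟩ := hxc
      exact ⟨i, congrArg Subtype.val hi⟩
    · intro h
      refine MulEquiv.ext fun k => Subtype.ext ?_
      rw [MulAut.conjNormal_apply, MulAut.one_apply]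
      rcases (mem_zpowers_two ht).1 h with rfl | rfl
      · rw [one_mul, inv_one, mul_one]
      · rw [← htc (k : X), mul_inv_cancel_right]
  haveI := H33.Triple.finite_fi22
  haveI : Finite (MulAut Cfsg.Spor.Fi22) :=
    Finite.of_injective (fun e : MulAut Cfsg.Spor.Fi22 => (e : Cfsg.Spor.Fi22 → Cfsg.Spor.Fi22))
      DFunLike.coe_injective
  let Θ' : X ⧸ Subgroup.zpowers t →* MulAut Cfsg.Spor.Fi22 := QuotientGroup.lift _ Θ hker.ge
  have hinj : Function.Injective Θ' := by
    refine (injective_iff_map_eq_one _).2 fun x hx => ?_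
    obtain ⟨x, rfl⟩ := QuotientGroup.mk'_surjective _ x
    exact (QuotientGroup.eq_one_iff x).2 (hker.le hx)
  refine ⟨MulEquiv.ofBijective Θ' ((Nat.bijective_iff_injective_and_card Θ').2 ⟨hinj, ?_⟩)⟩
  have h1 := V.ker.card_mul_index
  rw [hidx, Subgroup.card_eq_card_quotient_mul_card_subgroup (Subgroup.zpowers (⟨t, htk⟩ : V.ker)),
    Nat.card_congr f.toEquiv, Subgroup.card_eq_card_quotient_mul_card_subgroup (Subgroup.zpowers t),
    Nat.card_zpowers, Nat.card_zpowers, ← Subgroup.orderOf_coe] at h1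
  rw [H33.Triple.card_mulAut_fi22]
  have hpos := orderOf_pos t
  refine Nat.eq_of_mul_eq_mul_right hpos ?_
  rw [← h1]
  show Nat.card Cfsg.Spor.Fi22 * orderOf t * 2 = _
  ring

end H80.Fi24T
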