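import Cfsg.Agent.H80.Fi24T.Mate
import Cfsg.Agent.H80.Fi24T.Cent
import Cfsg.Agent.H16.Fi24.U6Ctx

/-!
The centraliser of an involution of the first orbit from the centraliser of a four-group.
-/

set_option autoImplicit false
set_option maxRecDepth 100000
set_option linter.unusedSectionVars false

namespace H80.Fi24T

open H16.Fi24 H7.Fi24L Cfsg

universe u

variable {G : Type u} [Group G] [Finite G] {z : G}
  {Q : Subgroup (Subgroup.centralizer ({z} : Set G))} [Q.Normal]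

/-- An involution of the first orbit has a four-group over its line with the given centraliser. -/
theorem exists_dat (hF : IsOfLargeFischerTypeAt z Q) (C : U6Ctx z Q) (hU : U6Four C.four)
    {t : Subgroup.centralizer ({z} : Set G)} (htQ : t ∈ Q) (ht2 : orderOf (t : G) = 2)
    (ht : ¬ IsConj z (t : G)) :
    ∃ (D : Model z Q) (S : Dat D), (S.t : G) = t ∧ U6Four S.E := by
  have htz : (t : G) ≠ z := fun h => ht (isConj_iff.2 ⟨1, by simp [h]⟩)
  have ho : orderOf t = 2 := by rw [← Subgroup.orderOf_coe]; exact ht2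
  have hl : lab (C.D.Φ t) = 2 := by
    have h2 := C.D.lab_involution htQ ho htz
    have h3 := (lab_cases (C.D.Φ t)).2.1
    by_contra hne
    exact ht ((isConj_iff_lab hF C.D htQ htz).2 (by omega))
  obtain ⟨g, hg, hgt⟩ := exists_of_lab (v := C.D.Φ t) (u := vS) (by omega) (by rw [hl, vS_facts.1])
  obtain ⟨k, hk, rfl⟩ := C.D.exists_rho hg
  set D := C.D.twist k hk with hD
  have hDt : D.Φ t = vS := by
    show C.D.Φ (k * t * k⁻¹) = vS
    rw [← C.D.conj k t htQ]
    exact hgt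
  obtain ⟨h, hh⟩ := D.conj_of_lab C.he htQ (by
    show 2 ≤ lab (C.D.Φ (k * C.e * k⁻¹))
    rw [C.D.lab_conj C.he, C.e_img, v2_facts.1]) (by
    rw [hDt, vS_facts.1]
    show 2 = lab (C.D.Φ (k * C.e * k⁻¹))
    rw [C.D.lab_conj C.he, C.e_img, v2_facts.1])
  set E : Subgroup G := C.four.map (MulAut.conj (h : G)).toMonoidHom with hEdef
  set f := h * C.f * h⁻¹ with hfdef
  have hfQ : f ∈ Q := Subgroup.Normal.conj_mem inferInstance _ C.hf' h
  have hmem : ∀ x : G, x ∈ E ↔ x = 1 ∨ x = t ∨ x = f ∨ x = (t : G) * f := by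
    intro x
    have e1 : (h : G) * C.e * (h : G)⁻¹ = t := congrArg Subtype.val hh
    have e2 : (h : G) * C.f * (h : G)⁻¹ = f := rfl
    rw [hEdef, Subgroup.mem_map]
    constructor
    · rintro ⟨y, hy, rfl⟩
      simp only [MulEquiv.coe_toMonoidHom, MulAut.conj_apply]
      rcases C.mem_four.1 hy with rfl | rfl | rfl | rfl
      · exact Or.inl (by group)
      · exact Or.inr (Or.inl e1)
      · exact Or.inr (Or.inr (Or.inl e2))
      · exact Or.inr (Or.inr (Or.inr (by rw [← e1, ← e2]; group)))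
    · rintro (rfl | rfl | rfl | rfl)
      · exact ⟨1, one_mem _, map_one _⟩
      · exact ⟨_, C.mem_four.2 (Or.inr (Or.inl rfl)), e1⟩
      · exact ⟨_, C.mem_four.2 (Or.inr (Or.inr (Or.inl rfl))), e2⟩
      · refine ⟨_, C.mem_four.2 (Or.inr (Or.inr (Or.inr rfl))), ?_⟩
        rw [map_mul]
        exact congrArg₂ (· * ·) e1 e2
  have hU' : U6Four E := by
    refine U6Four.of_hom (MulAut.conj (h : G)⁻¹).toMonoidHom (MulAut.conj (h : G)⁻¹).injective ?_ ?_ hU
    · rw [hEdef, Subgroup.map_map]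
      convert Subgroup.map_id C.four
      refine MonoidHom.ext fun x => ?_
      simp [mul_assoc]
    · intro x _
      exact ⟨(h : G) * x * (h : G)⁻¹, by simp [mul_assoc]⟩
  have hCf : D.Φ C.f = wW (D.Φ C.e) := by
    show C.D.Φ (k * C.f * k⁻¹) = wW (C.D.Φ (k * C.e * k⁻¹))
    rw [← C.D.conj k _ C.hf', ← C.D.conj k _ C.he, C.f_img, C.e_img,
      (isUni_K0 (C.D.rho_mem k hk)).wcomm]
  have hev : D.ρ h (D.Φ C.e) = vS := by rw [D.conj h _ C.he, hh, hDt]
  have hf : D.Φ f = wW vS ∨ D.Φ f = wW (wW vS) := by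
    rw [hfdef, ← D.conj h _ C.hf', hCf, ← hev]
    exact D.scal h |>.imp (fun e => e _) (fun e => e _)
  rcases hf with hf | hf
  · exact ⟨D, ⟨t, f, htQ, hfQ, hDt, hf, E, hmem⟩, rfl, hU'⟩
  · refine ⟨D, ⟨t, t * f, htQ, mul_mem htQ hfQ, hDt, ?_, E, fun x => ?_⟩, rfl, hU'⟩
    · rw [D.map_mul t htQ f hfQ, hDt, hf, wW_two, ← add_assoc, add_self_W, zero_add]
    · have htt : (t : G) * t = 1 := by rw [← pow_two, ← ht2, pow_orderOf_eq_one]
      have e3 : (t : G) * ((t * f : _) : G) = f := by rw [Subgroup.coe_mul, ← mul_assoc, htt, one_mul]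
      rw [hmem, e3]
      simp only [Subgroup.coe_mul]
      tauto

namespace Dat

variable {D : Model z Q} (S : Dat D)

/-- The four-group inside the centraliser. -/
abbrev EX : Subgroup S.X := S.E.subgroupOf S.X

theorem t_central : ∀ x : S.X, x * (⟨S.t, Subgroup.mem_centralizer_singleton_iff.2 rfl⟩ : S.X) =
    (⟨S.t, Subgroup.mem_centralizer_singleton_iff.2 rfl⟩ : S.X) * x := fun x =>
  Subtype.ext (Subgroup.mem_centralizer_singleton_iff.1 x.2)

/-- The structure of the centraliser. -/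
theorem facts (hF : IsOfLargeFischerTypeAt z Q) (hU : U6Four S.E) :
    S.V.ker.index = 2 ∧ Subgroup.centralizer (S.EX : Set S.X) ≤ S.V.ker ∧
      Subgroup.centralizer (S.V.ker : Set S.X) ≤ S.V.ker ∧
      generalizedFittingSubgroup S.X = S.V.ker ∧
      (∀ hz : z ∈ S.X, (⟨z, hz⟩ : S.X) ∈ S.V.ker) ∧
      ∃ htk : (⟨S.t, Subgroup.mem_centralizer_singleton_iff.2 rfl⟩ : S.X) ∈ S.V.ker,
        FiData (⟨_, htk⟩ : S.V.ker) ∧
        ∀ [(Subgroup.zpowers (⟨S.t, Subgroup.mem_centralizer_singleton_iff.2 rfl⟩ : S.X)).Normal],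
          Nonempty (S.X ⧸ Subgroup.zpowers (⟨S.t, Subgroup.mem_centralizer_singleton_iff.2 rfl⟩ : S.X) ≃*
            MulAut Cfsg.Spor.Fi22) := by
  classical
  obtain ⟨P⟩ := exists_pt hF D
  obtain ⟨y, hyV, hys⟩ := S.exists_swapper P hF
  obtain ⟨hl, hl', huv, hmove, -, -, -⟩ := uS_facts
  obtain ⟨q, hq, hqΦ⟩ := D.surj uS
  have hqX : (q : G) ∈ S.X := Subgroup.mem_centralizer_singleton_iff.2
    (congrArg Subtype.val ((D.comm q hq _ S.htQ).2 (by rw [hqΦ, S.htΦ, Bf_comm]; exact huv)))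
  have hsX : (S.t' : G) ∈ S.X := Subgroup.mem_centralizer_singleton_iff.2 S.comm_tt'.symm
  have hqs : (q * S.t' * q⁻¹ : Subgroup.centralizer ({z} : Set G)) ∈ Q :=
    Subgroup.Normal.conj_mem inferInstance _ S.ht'Q q
  have hqsΦ : D.Φ (q * S.t' * q⁻¹) = D.Φ S.t' := by rw [← D.conj q _ S.ht'Q, D.rho_Q hq]; rfl
  have hqz : (q : G) * S.t' * (q : G)⁻¹ = (S.t' : G) * z := by
    rcases D.eq_or_mul hqs S.ht'Q hqsΦ with e | e
    · exfalso
      have h2 := (D.comm q hq _ S.ht'Q).1 (mul_inv_eq_iff_eq_mul.1 (Subtype.ext e))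
      rw [hqΦ, S.ht'Φ, Bf_comm, hmove] at h2
      exact absurd h2 (by decide)
    · exact e
  have hU' : U6Four S.EX := U6Four.of_hom S.X.subtype S.X.subtype_injective
    (Subgroup.map_subgroupOf_eq_of_le (fun x hx => Subgroup.mem_centralizer_singleton_iff.2 (by
      rcases (S.hE x).1 hx with rfl | rfl | rfl | rfl
      · rw [one_mul, mul_one]
      · rfl
      · exact S.comm_tt'.symm
      · rw [mul_assoc, ← S.comm_tt']))) (fun x hx => by
      rw [Subgroup.range_subtype]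
      exact Subgroup.mem_centralizer_singleton_iff.2
        (Subgroup.mem_centralizer_iff.1 hx _ S.t_mem).symm) hU
  have hzz : z * z = 1 := by
    have := pow_orderOf_eq_one z
    rwa [hF.1.1, pow_two] at this
  obtain ⟨h1, h2, h3, h4, htk, h5, h6⟩ := half (t := (⟨S.t, Subgroup.mem_centralizer_singleton_iff.2 rfl⟩ : S.X))
    (s := (⟨S.t', hsX⟩ : S.X)) (E := S.EX) (Subtype.ext S.t_sq) S.t_central (Subtype.ext S.t'_sq)
    (fun h => by
      rcases (mem_zpowers_two (Subtype.ext S.t_sq)).1 h with e | e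
      · have e' : (S.t' : G) = 1 := congrArg Subtype.val e
        exact vS_line.2.1 (S.ht'Φ.symm.trans ((D.eq_zero _ S.ht'Q).2 (Or.inl e')))
      · have e' : (S.t' : G) = S.t := congrArg (fun r : S.X => (r : G)) e
        exact vS_line.2.2.1 (S.htΦ.symm.trans ((congrArg D.Φ (Subtype.ext e'.symm : S.t = S.t')).trans S.ht'Φ)))
    (fun x => by
      rw [Subgroup.mem_subgroupOf, S.hE]
      simp only [Subtype.ext_iff, Subgroup.coe_one, Subgroup.coe_mul])
    hU' S.V y (by rw [hyV]; decide) (Subtype.ext hys) ⟨q, hqX⟩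
    (Subtype.ext (by
      show (q : G) * S.t' * (q : G)⁻¹ * S.t' = (S.t' : G) * ((q : G) * S.t' * (q : G)⁻¹)
      rw [hqz, mul_assoc, ← Subgroup.mem_centralizer_singleton_iff.1 S.t'.2]))
    (fun h => by
      have h' : (q : G) * S.t' * (q : G)⁻¹ ∈ S.E := h
      rw [hqz] at h'
      exact S.z_notMem ((Subgroup.mul_mem_cancel_left _ S.t'_mem).1 h'))
  refine ⟨h1, h2, h3, h4, fun hz => ?_, htk, h5, h6⟩
  have e : (⟨z, hz⟩ : S.X) = (⟨S.t', hsX⟩ : S.X)⁻¹ * ((⟨q, hqX⟩ : S.X) * ⟨S.t', hsX⟩ * (⟨q, hqX⟩ : S.X)⁻¹) := by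
    refine Subtype.ext ?_
    show z = (S.t' : G)⁻¹ * ((q : G) * S.t' * (q : G)⁻¹)
    rw [hqz, inv_mul_cancel_left]
  rw [e, MonoidHom.mem_ker, map_mul, map_mul, map_mul, map_inv, map_inv,
    mul_comm (S.V ⟨q, hqX⟩), mul_inv_cancel_right, inv_mul_cancel]

end Dat

end H80.Fi24T
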