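import Cfsg.Agent.H7.Fi24L.Special

/-!
Certificates for a vector of the first orbit met by two attached groups.
-/

set_option autoImplicit false
set_option maxRecDepth 100000

namespace H80.Fi24T

open H16.Fi24 H7.Fi24L

/-- The conjugates of the first element as plain maps. -/
def nf (s : Equiv.Perm (Fin 6)) (v : W) : W := AMap s (n1f (AMap s⁻¹ v))

theorem nList_apply {g : Equiv.Perm W} (hg : g ∈ nList) :
    g = 1 ∨ ∃ s ∈ sigs, ∀ v, g v = nf s v := by
  rw [nList, List.mem_cons, List.mem_map] at hg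
  rcases hg with rfl | ⟨s, hs, rfl⟩
  · exact Or.inl rfl
  · exact Or.inr ⟨s, hs, fun v => by
      rw [Equiv.Perm.mul_apply, Equiv.Perm.mul_apply, n1_eq, ← map_inv]; rfl⟩

theorem nf_mem {s : Equiv.Perm (Fin 6)} (hs : s ∈ sigs) :
    AMap s * n1 * (AMap s)⁻¹ ∈ Nn ∧ ∀ v, (AMap s * n1 * (AMap s)⁻¹) v = nf s v :=
  ⟨nList_mem _ (by rw [nList]; exact List.mem_cons_of_mem _ (List.mem_map_of_mem hs)), fun v => by
    rw [Equiv.Perm.mul_apply, Equiv.Perm.mul_apply, n1_eq, ← map_inv]; rfl⟩

theorem nf_add {s : Equiv.Perm (Fin 6)} (hs : s ∈ sigs) (a b : W) :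
    nf s (a + b) = nf s a + nf s b := by
  obtain ⟨hm, e⟩ := nf_mem hs
  rw [← e, ← e, ← e, (isUni_K0 hm.1.1).add]

/-- The test for the image of the intersection of two attached groups. -/
def inSb (y : W) : Bool :=
  (bfC y u0 == 0) && (bfC y u1 == 0) && sigs.all fun s => (nf s y + y == 0) || (nf s y + y == u0)

/-- The test as a proposition. -/
def inS (y : W) : Prop :=
  perpU y ∧ ∀ s ∈ sigs, nf s y + y = 0 ∨ nf s y + y = u0

theorem inSb_iff (y : W) : inSb y = true ↔ inS y := by
  simp only [inSb, inS, perpU, bfC_eq, Bool.and_eq_true, beq_iff_eq, List.all_eq_true, Bool.or_eq_true]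

theorem card_inSb : (Finset.univ.filter fun y : W => inSb y = true).card = 64 := by decide +kernel

theorem line_check : ∀ y : W, inSb y = true → lab y = 2 →
    inSb (wW y) = false ∧ inSb (wW (wW y)) = false :=
  forall_W (by decide +kernel)

/-- The vector. -/
def vS : W := ![0, 0, 0, 0, (1, 1), (1, 0)]

/-- The vector moving it. -/
def uS : W := ![0, 0, 0, (0, 1), 0, (1, 0)]

/-- The vector excluding the other elements. -/
def yS : W := ![0, 0, 0, (1, 0), 0, 0]

theorem vS_facts : lab vS = 2 ∧ inSb vS = true ∧ Bf vS u0 = 0 := by decide +kernel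

theorem uS_facts : lab uS = 2 ∧ lab (uS + vS) = 2 ∧ Bf vS uS = 0 ∧ Bf (wW vS) uS = 1 ∧
    Bf uS u0 = 0 ∧ Bf yS u0 = 0 ∧ Bf yS vS = 0 := by decide +kernel

theorem uS_check : ∀ s ∈ sigs, nf s vS = vS →
    (nf s yS + yS = 0 ∨ nf s yS + yS = u0 ∨ nf s yS + yS = vS ∨ nf s yS + yS = u0 + vS) →
    nf s uS = uS + vS := by decide +kernel

theorem mem_nList (hK0 : Nat.card K0 = 9797760) {g : Equiv.Perm W} (hg : g ∈ Nn) : g ∈ nList := by
  classical
  have hd : nList.Nodup := List.Nodup.of_map _ nList_distinct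
  have hlen : nList.length = 16 := by simp [nList, sigs]
  by_contra hn
  have hsub : insert g nList.toFinset ⊆ (Finset.univ.filter fun x => x ∈ Nn) := fun x hx => by
    rcases Finset.mem_insert.1 hx with rfl | hx
    · simpa using hg
    · simpa using nList_mem x (by simpa using hx)
  have hle := Finset.card_le_card hsub
  rw [Finset.card_insert_of_notMem (by simpa using hn), List.toFinset_card_of_nodup hd, hlen,
    ← Fintype.card_subtype, ← Nat.card_eq_fintype_card, (structure_stab hK0).1] at hle
  omega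

/-- The test as a subgroup. -/
def SSub : AddSubgroup W where
  carrier := {y | inS y}
  zero_mem' := ⟨(PSub).zero_mem, fun s hs => Or.inl (by
    have h := nf_add hs 0 0
    rw [add_zero] at h
    rw [left_eq_add.mp h, add_zero])⟩
  add_mem' := by
    rintro a b ⟨ha, ha'⟩ ⟨hb, hb'⟩
    refine ⟨PSub.add_mem ha hb, fun s hs => ?_⟩
    have e : nf s (a + b) + (a + b) = (nf s a + a) + (nf s b + b) := by
      rw [nf_add hs, add_add_add_comm]
    rw [e]
    rcases ha' s hs with h | h <;> rcases hb' s hs with h' | h' <;> rw [h, h']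
    · exact Or.inl (add_zero _)
    · exact Or.inr (zero_add _)
    · exact Or.inr (add_zero _)
    · exact Or.inl (add_self_W _)
  neg_mem' {a} ha := by rwa [Set.mem_setOf_eq, neg_eq_of_add_eq_zero_right (add_self_W a)]

theorem card_SSub : Nat.card SSub = 64 := by
  classical
  rw [← card_inSb, Nat.card_eq_fintype_card, ← Fintype.card_subtype]
  exact Fintype.card_congr (Equiv.subtypeEquivRight fun v => (inSb_iff v).symm)

/-! ### Duality -/

theorem z2 : ∀ a : ZMod 2, a = 0 ∨ a = 1 := by decide

theorem Bf_add_right (x y v : W) : Bf v (x + y) = Bf v x + Bf v y := by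
  rw [Bf_comm, Bf_add, Bf_comm x, Bf_comm y]

theorem Bf_nondeg (v : W) (hv : ∀ u, Bf v u = 0) : v = 0 := by
  funext i
  have hc : ∀ a : F4, (∀ b : F4, Bf (Pi.single i a) (Pi.single i b) = 0) → a = 0 := by
    revert i; decide +kernel
  refine hc _ fun b => ?_
  rw [← Bf_single]
  exact hv _

theorem Bf_wW : ∀ a b : W, Bf (wW a) (wW b) = Bf a b := by
  intro a b
  have key : ∀ x : W, qf (wW x) = qf x := fun x => (isUni_mono 1 fun _ => 1).q x
  have hadd : wW (a + b) = wW a + wW b := funext fun i => mu_add _ _ _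
  simp only [Bf, key, ← hadd]

theorem dual2 {v u d x y : W} (hvx : Bf v x = 1) (hux : Bf u x = 0) (hvy : Bf v y = 0)
    (huy : Bf u y = 1) (h : ∀ x, Bf v x = 0 → Bf u x = 0 → Bf d x = 0) :
    d = 0 ∨ d = v ∨ d = u ∨ d = v + u := by
  have key : ∀ p, Bf d p = Bf v p * Bf d x + Bf u p * Bf d y := by
    intro p
    have h2 : ∀ a : ZMod 2, a + a = 0 := by decide
    rcases z2 (Bf v p) with hp | hp <;> rcases z2 (Bf u p) with hq | hq <;> rw [hp, hq]
    · simp [h p hp hq]
    · have := h (p + y) (by rw [Bf_add_right, hp, hvy, add_zero])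
        (by rw [Bf_add_right, hq, huy, h2])
      rw [Bf_add_right] at this
      simp only [zero_mul, one_mul, zero_add]
      linear_combination this - h2 (Bf d y)
    · have := h (p + x) (by rw [Bf_add_right, hp, hvx, h2])
        (by rw [Bf_add_right, hq, hux, add_zero])
      rw [Bf_add_right] at this
      simp only [zero_mul, one_mul, add_zero]
      linear_combination this - h2 (Bf d x)
    · have := h (p + x + y) (by rw [Bf_add_right, Bf_add_right, hp, hvx, hvy, h2, zero_add])
        (by rw [Bf_add_right, Bf_add_right, hq, hux, huy, add_zero, h2])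
      rw [Bf_add_right, Bf_add_right] at this
      simp only [one_mul]
      linear_combination this - h2 (Bf d x + Bf d y)
  have fin : ∀ a b : ZMod 2, (∀ p, Bf d p = Bf v p * a + Bf u p * b) →
      d = 0 ∨ d = v ∨ d = u ∨ d = v + u := by
    intro a b hab
    have hd : ∀ c : W, (∀ p, Bf d p = Bf c p) → d = c := fun c hc => by
      have h0 := Bf_nondeg (d + c) fun p => by
        rw [Bf_add, hc, (show ∀ a : ZMod 2, a + a = 0 by decide)]
      rwa [add_eq_zero_iff_eq_neg, neg_eq_of_add_eq_zero_right (add_self_W c)] at h0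
    rcases z2 a with rfl | rfl <;> rcases z2 b with rfl | rfl
    · exact Or.inl (hd 0 fun p => by rw [hab, Bf_zero]; simp)
    · exact Or.inr (Or.inr (Or.inl (hd u fun p => by rw [hab]; simp)))
    · exact Or.inr (Or.inl (hd v fun p => by rw [hab]; simp))
    · exact Or.inr (Or.inr (Or.inr (hd _ fun p => by rw [hab, Bf_add]; simp)))
  exact fin _ _ key

end H80.Fi24T
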