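import Mathlib

/-!
The transfer at an involution whose centraliser contains a two-group fixing only one coset.
-/

set_option autoImplicit false

namespace H80.Fi24T

open MulAction

universe u

variable {X : Type u} [Group X] [Finite X]

/-- If a two-group centralising an involution `y` fixes only the trivial coset, the transfer at `y`
is the value of the character at `y`. -/
theorem transfer_eq_self {L : Subgroup X} (χ : L →* Multiplicative (ZMod 2)) (y : L) (hy : y * y = 1)
    (R : Subgroup X) (hR : IsPGroup 2 R) (hRy : ∀ r ∈ R, r * (y : X) = (y : X) * r)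
    (hRL : R ≤ L) (hfix : ∀ g : X, (∀ r ∈ R, g⁻¹ * r * g ∈ L) → g ∈ L) :
    MonoidHom.transfer χ (y : X) = χ y := by
  classical
  cases nonempty_fintype X
  letI : Fintype (X ⧸ L) := Fintype.ofFinite _
  have hy' : (y : X) * y = 1 := congrArg Subtype.val hy
  rw [MonoidHom.transfer_eq_prod_quotient_orbitRel_zpowers_quot]
  set F : X ⧸ L → Multiplicative (ZMod 2) := fun c =>
    if h : c.out⁻¹ * (y : X) * c.out ∈ L then χ ⟨_, h⟩ else 1 with hFdef
  have hFix : ∀ (c : X ⧸ L), c.out⁻¹ * (y : X) * c.out ∈ L ↔ (y : X) • c = c := by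
    intro c
    have e : (y : X) • c = c ↔ c.out⁻¹ * ((y : X) * c.out) ∈ L := by
      nth_rewrite 1 2 [← QuotientGroup.out_eq' c]
      rw [MulAction.Quotient.smul_mk, eq_comm, QuotientGroup.eq, smul_eq_mul]
    rw [e, mul_assoc]
  have hval : ∀ (k : X) (h : k⁻¹ * (y : X) * k ∈ L) (l : L)
      (h' : (k * l)⁻¹ * (y : X) * (k * l) ∈ L), χ ⟨_, h'⟩ = χ ⟨_, h⟩ := by
    intro k h l h'
    have e : (⟨_, h'⟩ : L) = l⁻¹ * ⟨_, h⟩ * l := Subtype.ext (by simp [mul_assoc])
    rw [e, map_mul, map_mul, map_inv, mul_comm (χ l)⁻¹, inv_mul_cancel_right]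
  -- fixed cosets are exactly the orbits of length one
  have step : ∏ c, F c = ∏ c ∈ Finset.univ.filter (fun c => ∀ r : R, (r : X) • c = c), F c := by
    have key : ∀ s : Finset (X ⧸ L), ∏ c ∈ s, F c =
        Multiplicative.ofAdd (((s.filter fun c => F c ≠ 1).card : ℕ) : ZMod 2) := by
      intro s
      induction s using Finset.induction_on with
      | empty => simp
      | insert a s ha ih =>
        rw [Finset.prod_insert ha, ih, Finset.filter_insert]
        have h01 : ∀ x : Multiplicative (ZMod 2), x = 1 ∨ x = Multiplicative.ofAdd 1 := by decide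
        rcases h01 (F a) with h | h
        · rw [if_neg (not_not.2 h), h, one_mul]
        · rw [if_pos (by rw [h]; decide), Finset.card_insert_of_notMem (by simp [ha]), h,
            ← ofAdd_add, Nat.cast_add, Nat.cast_one, add_comm]
    rw [key, key]
    congr 1
    rw [ZMod.natCast_eq_natCast_iff]
    have hinv : ∀ (r : R) (c : X ⧸ L), F ((r : X) • c) = F c := by
      intro r c
      obtain ⟨l, hl⟩ : ∃ l : L, ((r : X) • c).out = ((r : X) * c.out) * l := by
        refine ⟨⟨((r : X) * c.out)⁻¹ * ((r : X) • c).out, ?_⟩, (mul_inv_cancel_left _ _).symm⟩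
        rw [← QuotientGroup.eq, QuotientGroup.out_eq']
        nth_rewrite 2 [← QuotientGroup.out_eq' c]
        rfl
      have e : ((r : X) * c.out)⁻¹ * (y : X) * ((r : X) * c.out) = c.out⁻¹ * y * c.out := by
        calc ((r : X) * c.out)⁻¹ * (y : X) * ((r : X) * c.out)
            = c.out⁻¹ * (r : X)⁻¹ * ((y : X) * r) * c.out := by group
          _ = c.out⁻¹ * (r : X)⁻¹ * ((r : X) * y) * c.out := by rw [hRy r r.2]
          _ = _ := by group
      by_cases h : c.out⁻¹ * (y : X) * c.out ∈ L
      · have h1 : ((r : X) * c.out)⁻¹ * (y : X) * ((r : X) * c.out) ∈ L := e.symm ▸ h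
        have h2 : ((r : X) • c).out⁻¹ * (y : X) * ((r : X) • c).out ∈ L := by
          rw [hFix, smul_smul, ← hRy r r.2, ← smul_smul, (hFix c).1 h]
        simp only [hFdef, dif_pos h, dif_pos h2]
        have h3 : ((r : X) * c.out * l)⁻¹ * (y : X) * ((r : X) * c.out * l) ∈ L := hl ▸ h2
        calc χ ⟨_, h2⟩ = χ ⟨_, h3⟩ := by congr 2; rw [hl]
          _ = χ ⟨_, h1⟩ := hval _ h1 l h3
          _ = χ ⟨_, h⟩ := by congr 2
      · have h2 : ¬ ((r : X) • c).out⁻¹ * (y : X) * ((r : X) • c).out ∈ L := by
          rw [hFix] at h ⊢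
          intro h2
          refine h ?_
          rw [smul_smul, ← hRy r r.2, ← smul_smul] at h2
          exact MulAction.injective (r : X) h2
        simp only [hFdef, dif_neg h, dif_neg h2]
    let α := {c : X ⧸ L // F c ≠ 1}
    letI : MulAction R α :=
      { smul := fun r c => ⟨(r : X) • c.1, by rw [hinv]; exact c.2⟩
        one_smul := fun c => Subtype.ext (one_smul X c.1)
        mul_smul := fun a b c => Subtype.ext (mul_smul (a : X) (b : X) c.1) }
    have := Fact.mk Nat.prime_two
    have hmod := hR.card_modEq_card_fixedPoints α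
    have c1 : Nat.card α = (Finset.univ.filter fun c => F c ≠ 1).card := by
      rw [Nat.card_eq_fintype_card, Fintype.card_subtype]
    have c2 : Nat.card (fixedPoints R α) =
        ((Finset.univ.filter fun c => ∀ r : R, (r : X) • c = c).filter fun c => F c ≠ 1).card := by
      rw [Finset.filter_filter, ← Fintype.card_subtype, ← Nat.card_eq_fintype_card]
      refine Nat.card_congr
        { toFun := fun x => ⟨x.1.1, fun r => congrArg Subtype.val (x.2 r), x.1.2⟩
          invFun := fun x => ⟨⟨x.1, x.2.2⟩, fun r => Subtype.ext (x.2.1 r)⟩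
          left_inv := fun _ => rfl
          right_inv := fun _ => rfl }
    rw [c1, c2] at hmod
    exact hmod
  have hone : (Finset.univ.filter fun c : X ⧸ L => ∀ r : R, (r : X) • c = c) =
      {((1 : X) : X ⧸ L)} := by
    ext c
    simp only [Finset.mem_filter, Finset.mem_univ, true_and, Finset.mem_singleton]
    constructor
    · intro h
      rw [← QuotientGroup.out_eq' c, QuotientGroup.eq, mul_one]
      refine inv_mem (hfix _ fun r hr => ?_)
      have h' := h ⟨r, hr⟩
      rw [← QuotientGroup.out_eq' c] at h'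
      have h2 := QuotientGroup.eq.1 h'.symm
      simpa [mul_assoc] using h2
    · rintro rfl r
      rw [MulAction.Quotient.smul_mk, QuotientGroup.eq, smul_eq_mul, mul_one, mul_one]
      exact inv_mem (hRL r.2)
  rw [hone, Finset.prod_singleton] at step
  have hF1 : F ((1 : X) : X ⧸ L) = χ y := by
    set c := ((1 : X) : X ⧸ L) with hc
    have hl : c.out ∈ L := by
      have : ((1 : X) : X ⧸ L) = (c.out : X ⧸ L) := (QuotientGroup.out_eq' c).symm
      simpa using QuotientGroup.eq.1 this
    have h : c.out⁻¹ * (y : X) * c.out ∈ L := mul_mem (mul_mem (inv_mem hl) y.2) hl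
    simp only [hFdef, dif_pos h]
    have e : (⟨_, h⟩ : L) = (⟨c.out, hl⟩ : L)⁻¹ * y * ⟨c.out, hl⟩ := rfl
    rw [e, map_mul, map_mul, map_inv, mul_comm (χ ⟨c.out, hl⟩)⁻¹, inv_mul_cancel_right]
  rw [← hF1, ← step]
  refine Fintype.prod_of_injective (fun q => q.out) Quotient.out_injective _ F ?_ ?_
  · intro c hc
    refine dif_neg fun h => hc ?_
    refine ⟨Quotient.mk _ c, ?_⟩
    obtain ⟨⟨g, hg⟩, hgc⟩ : (Quotient.mk'' c : Quotient (orbitRel (Subgroup.zpowers (y : X)) (X ⧸ L))).out ∈
        MulAction.orbit (Subgroup.zpowers (y : X)) c :=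
      Quotient.mk_out (s := orbitRel (Subgroup.zpowers (y : X)) (X ⧸ L)) c
    obtain ⟨k, rfl⟩ := hg
    refine hgc.symm.trans ?_
    show ((y : X) ^ k) • c = c
    have := (hFix c).1 h
    exact MulAction.mem_stabilizer_iff.1 (zpow_mem (MulAction.mem_stabilizer_iff.2 this) k)
  · intro q
    simp only [hFdef]
    have hper : Function.IsPeriodicPt ((y : X) • ·) 2 q.out := by
      show (y : X) • (y : X) • q.out = q.out
      rw [smul_smul, hy', one_smul]
    have hdvd := hper.minimalPeriod_dvd
    rcases (Nat.dvd_prime Nat.prime_two).1 hdvd with h1 | h2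
    · have hfx : q.out.out⁻¹ * (y : X) * q.out.out ∈ L :=
        (hFix _).2 (Function.minimalPeriod_eq_one_iff_isFixedPt.1 h1)
      rw [dif_pos hfx]
      congr 1
      exact Subtype.ext (by simp only [h1, pow_one])
    · have hnf : ¬ q.out.out⁻¹ * (y : X) * q.out.out ∈ L := fun h => by
        have := Function.minimalPeriod_eq_one_iff_isFixedPt.2
          (show Function.IsFixedPt ((y : X) • ·) q.out from (hFix _).1 h)
        omega
      rw [dif_neg hnf]
      refine Eq.trans (congrArg χ (Subtype.ext ?_)) χ.map_one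
      simp only [h2, pow_two, hy', OneMemClass.coe_one]
      group

end H80.Fi24T
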