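import Cfsg.Agent.H80.Fi24T.Cert
import Cfsg.Agent.H80.Fi24T.Transfer
import Cfsg.Agent.H16.Fi24.Anti

/-!
A character of the centraliser of an involution of the first orbit, by transfer from the centraliser of
the central involution.
-/

set_option autoImplicit false
set_option maxRecDepth 100000
set_option linter.unusedSectionVars false
set_option linter.style.haveILetI false

namespace H80.Fi24T

open H16.Fi24 H7.Fi24L Cfsg

universe u

variable {G : Type u} [Group G] [Finite G] {z : G}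
  {Q : Subgroup (Subgroup.centralizer ({z} : Set G))} [Q.Normal]

theorem wW_add (a b : W) : wW (a + b) = wW a + wW b := funext fun _ => mu_add _ _ _

theorem wW_three (a : W) : wW (wW (wW a)) = a := funext fun i =>
  (show ∀ x : F4, mu (0, 1) (mu (0, 1) (mu (0, 1) x)) = x by decide) (a i)

theorem wW_two (a : W) : wW (wW a) = a + wW a := funext fun i =>
  (show ∀ x : F4, mu (0, 1) (mu (0, 1) x) = x + mu (0, 1) x by decide) (a i)

theorem Bf_wW_shift (a b : W) : Bf a (wW b) = Bf (wW (wW a)) b := by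
  rw [← Bf_wW a (wW b), ← Bf_wW (wW a) (wW (wW b)), wW_three]

theorem qf_of_lab {v : W} (h : 2 ≤ lab v) : qf v = 0 := ((lab_cases v).2.2.1 h).1

theorem Bf_self (v : W) : Bf v v = 0 := by
  have h0 : qf (0 : W) = 0 := rfl
  rw [Bf, add_self_W, h0, zero_add]
  exact (show ∀ a : ZMod 2, a + a = 0 by decide) _

theorem vS_line : vS ≠ 0 ∧ wW vS ≠ 0 ∧ vS ≠ wW vS ∧ vS + wW vS ≠ 0 ∧ vS + wW vS ≠ vS ∧
    vS + wW vS ≠ wW vS ∧ Bf vS (wW vS) = 0 ∧ qf (wW vS) = 0 ∧ lab (wW vS) = 2 ∧
    lab (wW (wW vS)) = 2 := by decide +kernel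

/-- An involution over the vector and a four-group over its line. -/
structure Dat (D : Model z Q) where
  t : Subgroup.centralizer ({z} : Set G)
  t' : Subgroup.centralizer ({z} : Set G)
  htQ : t ∈ Q
  ht'Q : t' ∈ Q
  htΦ : D.Φ t = vS
  ht'Φ : D.Φ t' = wW vS
  E : Subgroup G
  hE : ∀ x : G, x ∈ E ↔ x = 1 ∨ x = t ∨ x = t' ∨ x = (t : G) * t'

/-- The conditions on the second vector. -/
structure Good (u : W) : Prop where
  l1 : lab u = 2
  l2 : lab (u + vS) = 2
  orth : Bf vS u = 0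
  move : Bf (wW vS) u = 1

namespace Dat

variable {D : Model z Q} (S : Dat D)

theorem t_sq : (S.t : G) * S.t = 1 :=
  congrArg Subtype.val ((D.sq _ S.htQ).2 (S.htΦ.symm ▸ qf_of_lab (by rw [vS_facts.1])))

theorem t'_sq : (S.t' : G) * S.t' = 1 :=
  congrArg Subtype.val ((D.sq _ S.ht'Q).2 (S.ht'Φ.symm ▸ vS_line.2.2.2.2.2.2.2.1))

theorem comm_tt' : (S.t : G) * S.t' = S.t' * S.t :=
  congrArg Subtype.val ((D.comm _ S.htQ _ S.ht'Q).2 (by rw [S.htΦ, S.ht'Φ]; exact vS_line.2.2.2.2.2.2.1))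

theorem t_ne : (S.t : G) ≠ 1 ∧ (S.t : G) ≠ z :=
  ⟨fun h => vS_line.1 (S.htΦ.symm.trans ((D.eq_zero _ S.htQ).2 (Or.inl h))),
    fun h => vS_line.1 (S.htΦ.symm.trans ((D.eq_zero _ S.htQ).2 (Or.inr h)))⟩

theorem t_mem : (S.t : G) ∈ S.E := (S.hE _).2 (Or.inr (Or.inl rfl))

theorem t'_mem : (S.t' : G) ∈ S.E := (S.hE _).2 (Or.inr (Or.inr (Or.inl rfl)))

/-- The four-group lies over the line. -/
theorem mem_lift {x : G} (hx : x ∈ S.E) :
    ∃ y ∈ Q, (y : Subgroup.centralizer ({z} : Set G)).1 = x ∧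
      (x = 1 ∧ D.Φ y = 0 ∨ x = S.t ∧ D.Φ y = vS ∨ x = S.t' ∧ D.Φ y = wW vS ∨
        x = (S.t : G) * S.t' ∧ D.Φ y = vS + wW vS) := by
  rcases (S.hE x).1 hx with rfl | rfl | rfl | rfl
  · exact ⟨1, one_mem _, rfl, Or.inl ⟨rfl, phi_one D⟩⟩
  · exact ⟨_, S.htQ, rfl, Or.inr (Or.inl ⟨rfl, S.htΦ⟩)⟩
  · exact ⟨_, S.ht'Q, rfl, Or.inr (Or.inr (Or.inl ⟨rfl, S.ht'Φ⟩))⟩
  · exact ⟨S.t * S.t', mul_mem S.htQ S.ht'Q, rfl, Or.inr (Or.inr (Or.inr ⟨rfl, by
      rw [D.map_mul _ S.htQ _ S.ht'Q, S.htΦ, S.ht'Φ]⟩))⟩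

/-- Members of the four-group with the same vector are equal. -/
theorem eq_of_phi {x y : Subgroup.centralizer ({z} : Set G)} (hx : (x : G) ∈ S.E) (hy : (y : G) ∈ S.E)
    (e : D.Φ x = D.Φ y) : x = y := by
  obtain ⟨h0, h1, h01, h2, h20, h21, -⟩ := vS_line
  obtain ⟨x', -, ex, hx'⟩ := S.mem_lift hx
  obtain ⟨y', -, ey, hy'⟩ := S.mem_lift hy
  obtain rfl : x' = x := Subtype.ext ex
  obtain rfl : y' = y := Subtype.ext ey
  refine Subtype.ext ?_
  rcases hx' with ⟨a, a'⟩ | ⟨a, a'⟩ | ⟨a, a'⟩ | ⟨a, a'⟩ <;>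
    rcases hy' with ⟨b, b'⟩ | ⟨b, b'⟩ | ⟨b, b'⟩ | ⟨b, b'⟩ <;>
    first
      | exact a.trans b.symm
      | (rw [a', b'] at e
         first
           | exact absurd e h0 | exact absurd e.symm h0 | exact absurd e h1 | exact absurd e.symm h1
           | exact absurd e h01 | exact absurd e.symm h01 | exact absurd e h2 | exact absurd e.symm h2
           | exact absurd e h20 | exact absurd e.symm h20 | exact absurd e h21
           | exact absurd e.symm h21)

theorem z_notMem : z ∉ S.E := fun h => by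
  have h1 : z = 1 := congrArg Subtype.val
    (S.eq_of_phi (x := zc z) (y := 1) h (one_mem _) (by rw [phi_zc, phi_one]))
  obtain ⟨y, hy, hne⟩ := D.exists_move S.htQ (by rw [S.htΦ]; exact vS_line.1)
  refine hne ?_
  have e : D.Φ (y * S.t * y⁻¹) = D.Φ S.t := by rw [← D.conj y _ S.htQ, D.rho_Q hy]; rfl
  rcases D.eq_or_mul (Subgroup.Normal.conj_mem inferInstance _ S.htQ y) S.htQ e with h' | h'
  · exact (mul_inv_eq_iff_eq_mul.1 (Subtype.ext h')).symm
  · exact (mul_inv_eq_iff_eq_mul.1 (Subtype.ext (h'.trans ((congrArg (fun w => (S.t : G) * w) h1).trans (mul_one _))))).symm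

/-- The centraliser of the involution. -/
abbrev X : Subgroup G := Subgroup.centralizer ({(S.t : G)} : Set G)

/-- The part centralising `z`. -/
abbrev L : Subgroup S.X := (Subgroup.centralizer ({z} : Set G)).subgroupOf S.X

/-- An element of that part inside the centraliser of `z`. -/
def toH (h : S.L) : Subgroup.centralizer ({z} : Set G) := ⟨((h : S.X) : G), h.2⟩

theorem toH_fix (h : S.L) : S.toH h * S.t * (S.toH h)⁻¹ = S.t :=
  Subtype.ext (mul_inv_eq_iff_eq_mul.2 (Subgroup.mem_centralizer_singleton_iff.1 (h : S.X).2))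

/-- The image of the second member under an element fixing the first. -/
theorem conj_t'_cases (h : Subgroup.centralizer ({z} : Set G)) (hh : h * S.t * h⁻¹ = S.t) :
    ((h * S.t' * h⁻¹ : _) : G) ∈ S.E ↔ ¬ ((h * S.t' * h⁻¹ : _) : G) * z ∈ S.E := by
  have hq : h * S.t' * h⁻¹ ∈ Q := Subgroup.Normal.conj_mem inferInstance _ S.ht'Q h
  have hv : D.ρ h vS = vS := by rw [← S.htΦ, D.conj h _ S.htQ, hh]
  constructor
  · intro h1 h2
    exact S.z_notMem ((Subgroup.mul_mem_cancel_left _ h1).1 h2)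
  · intro h2
    obtain ⟨r, hr, hrE, hrΦ⟩ : ∃ r ∈ Q, (r : G) ∈ S.E ∧ D.Φ r = D.Φ (h * S.t' * h⁻¹) := by
      rw [← D.conj h _ S.ht'Q, S.ht'Φ]
      rcases D.scal h with hs | hs <;> rw [hs, hv]
      · exact ⟨_, S.ht'Q, S.t'_mem, S.ht'Φ⟩
      · exact ⟨S.t * S.t', mul_mem S.htQ S.ht'Q, mul_mem S.t_mem S.t'_mem, by
          rw [D.map_mul _ S.htQ _ S.ht'Q, S.htΦ, S.ht'Φ, wW_two]⟩
    rcases D.eq_or_mul hq hr hrΦ.symm with e | e
    · rw [e]; exact hrE
    · refine absurd ?_ h2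
      rw [e, mul_assoc]
      have hzz : z * z = 1 := by
        have h2 : zc z * zc z = 1 := (D.sq _ D.zc_mem).2 (by
          rw [(D.eq_zero _ D.zc_mem).2 (Or.inr rfl)]; rfl)
        exact congrArg Subtype.val h2
      rw [hzz, mul_one]
      exact hrE

open scoped Classical in
/-- The action on the two four-groups. -/
noncomputable def mov (h : S.L) : Multiplicative (ZMod 2) :=
  if ((S.toH h * S.t' * (S.toH h)⁻¹ : _) : G) ∈ S.E then 1 else Multiplicative.ofAdd 1

theorem mov_mul (g h : S.L) : S.mov (g * h) = S.mov g * S.mov h := by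
  classical
  set a := S.toH g
  set b := S.toH h
  have hab : S.toH (g * h) = a * b := rfl
  have ha := S.toH_fix g
  have key : ∀ x ∈ S.E, (∃ y ∈ Q, (y : Subgroup.centralizer ({z} : Set G)).1 = x ∧
      (D.Φ y = wW vS ∨ D.Φ y = vS + wW vS)) →
      ((a : G) * x * (a : G)⁻¹ ∈ S.E ↔ ((a * S.t' * a⁻¹ : _) : G) ∈ S.E) := by
    intro x hx ⟨y, hy, e, hΦ⟩
    subst e
    rcases hΦ with hΦ | hΦ
    · rw [S.eq_of_phi hx S.t'_mem (hΦ.trans S.ht'Φ.symm)]
      rfl
    · have := S.eq_of_phi (x := y) (y := S.t * S.t') hx (mul_mem S.t_mem S.t'_mem)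
        (hΦ.trans (by rw [D.map_mul _ S.htQ _ S.ht'Q, S.htΦ, S.ht'Φ]))
      subst this
      rw [Subgroup.coe_mul, show (a : G) * ((S.t : G) * S.t') * (a : G)⁻¹ =
        ((a * S.t * a⁻¹ : _) : G) * ((a * S.t' * a⁻¹ : _) : G) by simp [mul_assoc], ha]
      exact Subgroup.mul_mem_cancel_left _ S.t_mem
  have hb' : b * S.t' * b⁻¹ ∈ Q := Subgroup.Normal.conj_mem inferInstance _ S.ht'Q b
  have hbΦ : D.Φ (b * S.t' * b⁻¹) = wW vS ∨ D.Φ (b * S.t' * b⁻¹) = vS + wW vS := by
    have hv : D.ρ b vS = vS := by rw [← S.htΦ, D.conj b _ S.htQ, S.toH_fix h]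
    rw [← D.conj b _ S.ht'Q, S.ht'Φ]
    rcases D.scal b with hs | hs <;> rw [hs, hv]
    · exact Or.inl rfl
    · exact Or.inr (wW_two _)
  have e : ((S.toH (g * h) * S.t' * (S.toH (g * h))⁻¹ : _) : G) =
      (a : G) * ((b * S.t' * b⁻¹ : _) : G) * (a : G)⁻¹ := by rw [hab]; simp [mul_assoc]
  by_cases hbE : ((b * S.t' * b⁻¹ : _) : G) ∈ S.E
  · have hk := key _ hbE ⟨_, hb', rfl, hbΦ⟩
    simp only [mov, e, hk]
    rw [if_pos hbE, mul_one]
  · have hbz : ((b * S.t' * b⁻¹ : _) : G) * z ∈ S.E := by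
      by_contra hn
      exact hbE ((S.conj_t'_cases b (S.toH_fix h)).2 hn)
    have hk := key _ hbz ⟨b * S.t' * b⁻¹ * zc z, mul_mem hb' D.zc_mem, rfl, by
      rw [D.map_mul _ hb' _ D.zc_mem, phi_zc, add_zero]; exact hbΦ⟩
    have hkz : (a : G) * (((b * S.t' * b⁻¹ : _) : G) * z) * (a : G)⁻¹ =
        ((S.toH (g * h) * S.t' * (S.toH (g * h))⁻¹ : _) : G) * z := by
      rw [e, mul_assoc, mul_assoc, mul_assoc ((a : G) * _), mul_assoc (a : G),
        (Subgroup.mem_centralizer_singleton_iff.1 (inv_mem a.2) : (a : G)⁻¹ * z = z * (a : G)⁻¹)]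
    rw [hkz] at hk
    have h1 := S.conj_t'_cases _ (S.toH_fix (g * h))
    simp only [mov]
    rw [if_neg hbE]
    by_cases haE : ((a * S.t' * a⁻¹ : _) : G) ∈ S.E
    · rw [if_pos haE, one_mul, if_neg (fun h2 => h1.1 h2 (hk.2 haE))]
    · rw [if_neg haE, if_pos (h1.2 (fun h2 => haE (hk.1 h2)))]
      decide

/-- The character. -/
noncomputable def chi : S.L →* Multiplicative (ZMod 2) := MonoidHom.mk' S.mov S.mov_mul

/-- Its transfer. -/
noncomputable def V : S.X →* Multiplicative (ZMod 2) := MonoidHom.transfer S.chi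

/-- The transfer is nontrivial at the lift of a good vector. -/
theorem V_eq (hF : IsOfLargeFischerTypeAt z Q) {x : Subgroup.centralizer ({z} : Set G)} (hx : x ∈ Q)
    {u : W} (hu : Good u) (hxΦ : D.Φ x = u) (hxX : (x : G) ∈ S.X) :
    S.V ⟨x, hxX⟩ = Multiplicative.ofAdd 1 := by
  classical
  have hz : orderOf z = 2 := hF.1.1
  let y : S.L := ⟨⟨x, hxX⟩, Subgroup.mem_subgroupOf.2 x.2⟩
  have hy : y * y = 1 := by
    have h := (D.sq x hx).2 (by rw [hxΦ]; exact qf_of_lab (by rw [hu.l1]))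
    exact Subtype.ext (Subtype.ext (congrArg Subtype.val h :))
  let R : Subgroup S.X := (up Q ⊓ Subgroup.centralizer ({(x : G)} : Set G)).subgroupOf S.X
  have hRp : IsPGroup 2 R := by
    have hQp : IsPGroup 2 (up Q) := by
      refine IsPGroup.of_card (n := 13) ?_
      rw [Subgroup.card_map_of_injective (Subgroup.subtype_injective _), hF.1.2.2.2.1]
    exact (hQp.to_le inf_le_left).comap_subtype
  have hRy : ∀ r ∈ R, r * (y : S.X) = (y : S.X) * r := fun r hr =>
    Subtype.ext (Subgroup.mem_centralizer_singleton_iff.1 (Subgroup.mem_subgroupOf.1 hr).2)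
  have hRL : R ≤ S.L := fun r hr => by
    obtain ⟨p, -, e⟩ := (Subgroup.mem_subgroupOf.1 hr).1
    exact Subgroup.mem_subgroupOf.2 (e ▸ p.2)
  have key : S.V (y : S.X) = S.chi y := by
    refine transfer_eq_self S.chi y hy R hRp hRy hRL fun g hg => ?_
    have hmemR : ∀ p : Subgroup.centralizer ({z} : Set G), p ∈ Q → Bf vS (D.Φ p) = 0 →
        Bf u (D.Φ p) = 0 → Commute (p : G) ((g : G) * z * (g : G)⁻¹) := by
      intro p hp h1 h2
      have hpt : (p : G) ∈ S.X := Subgroup.mem_centralizer_singleton_iff.2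
        (congrArg Subtype.val ((D.comm p hp _ S.htQ).2 (by rw [S.htΦ, Bf_comm]; exact h1)))
      have hpR : (⟨p, hpt⟩ : S.X) ∈ R := Subgroup.mem_subgroupOf.2 ⟨mem_up.2 hp,
        Subgroup.mem_centralizer_singleton_iff.2
          (congrArg Subtype.val ((D.comm p hp _ hx).2 (by rw [hxΦ, Bf_comm]; exact h2)))⟩
      have h := Subgroup.mem_centralizer_singleton_iff.1 (Subgroup.mem_subgroupOf.1 (hg _ hpR))
      have h' : Commute ((g : G)⁻¹ * p * g) z := h
      have := h'.map (MulAut.conj (g : G)).toMonoidHom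
      simpa [MulAut.conj_apply, mul_assoc] using this
    set z' := (g : G) * z * (g : G)⁻¹ with hz'def
    have hz'C : z' ∈ Subgroup.centralizer ({z} : Set G) := Subgroup.mem_centralizer_singleton_iff.2
      (hmemR (zc z) D.zc_mem (by rw [phi_zc, Bf_comm, Bf_zero]) (by rw [phi_zc, Bf_comm, Bf_zero])).symm
    set k := D.ρ ⟨z', hz'C⟩ with hk
    have hfixS : ∀ s, Bf vS s = 0 → Bf u s = 0 → k s = s := by
      intro s h1 h2
      obtain ⟨p, hp, rfl⟩ := D.surj s
      rw [hk, D.conj _ p hp]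
      congr 1
      exact mul_inv_eq_iff_eq_mul.2 (Subtype.ext (hmemR p hp h1 h2).symm.eq)
    obtain ⟨x0, hx0⟩ : ∃ x0, Bf vS x0 = 1 := by
      by_contra hn
      push Not at hn
      exact vS_line.1 (Bf_nondeg _ fun p => (z2 _).resolve_right (hn p))
    have hvv : Bf vS (wW vS) = 0 := vS_line.2.2.2.2.2.2.1
    have huw : Bf u (wW vS) = 1 := by rw [Bf_comm]; exact hu.move
    obtain ⟨px, hp1, hp2⟩ : ∃ px, Bf vS px = 1 ∧ Bf u px = 0 := by
      rcases z2 (Bf u x0) with e | e
      · exact ⟨x0, hx0, e⟩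
      · exact ⟨x0 + wW vS, by rw [Bf_add_right, hx0, hvv, add_zero],
          by rw [Bf_add_right, e, huw]; decide⟩
    have dual : ∀ d, (∀ s, Bf vS s = 0 → Bf u s = 0 → Bf d s = 0) →
        d = 0 ∨ d = vS ∨ d = u ∨ d = vS + u := fun d h => dual2 hp1 hp2 hvv huw h
    have hk1 : k = 1 := by
      rcases D.scal ⟨z', hz'C⟩ with hs | hs
      · refine Equiv.ext fun p => ?_
        set d := k p + p with hd
        have hd0 : ∀ s, Bf vS s = 0 → Bf u s = 0 → Bf d s = 0 ∧ Bf d (wW s) = 0 := by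
          intro s h1 h2
          have e1 := hfixS s h1 h2
          have e2 : k (wW s) = wW s := by rw [hk, hs, ← hk, e1]
          constructor
          · rw [hd, Bf_add]; nth_rewrite 1 [← e1]
            rw [hk, rho_Bf]; exact (show ∀ a : ZMod 2, a + a = 0 by decide) _
          · rw [hd, Bf_add]; nth_rewrite 1 [← e2]
            rw [hk, rho_Bf]; exact (show ∀ a : ZMod 2, a + a = 0 by decide) _
        have hP := dual d fun s h1 h2 => (hd0 s h1 h2).1
        have hP' := dual (wW (wW d)) fun s h1 h2 => by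
          rw [← Bf_wW_shift]; exact (hd0 s h1 h2).2
        have hperp : ∀ e, e = 0 ∨ e = vS ∨ e = u ∨ e = vS + u → Bf e vS = 0 := by
          rintro e (rfl | rfl | rfl | rfl)
          · exact Bf_zero _
          · exact Bf_self _
          · rw [Bf_comm]; exact hu.orth
          · rw [Bf_add, Bf_self, Bf_comm u, hu.orth, add_zero]
        have hd' : d = 0 := by
          have h1 : Bf (wW (wW d)) vS = 0 := hperp _ hP'
          rw [← Bf_wW_shift] at h1
          rcases hP with h | h | h | h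
          · exact h
          · exfalso
            have h2 : Bf (wW (wW vS)) (wW vS) = 0 := by rw [wW_two, Bf_add, hvv, Bf_self, add_zero]
            rw [h] at hP'
            rcases hP' with h' | h' | h' | h'
            · exact absurd h' (by intro e; have := vS_line.2.2.2.2.2.2.2.2.2; rw [e] at this
                                  exact absurd this (by decide))
            · rw [wW_two] at h'; exact vS_line.2.1 (add_eq_left.1 h')
            · rw [h', huw] at h2; exact absurd h2 (by decide)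
            · rw [h', Bf_add, hvv, huw] at h2; exact absurd h2 (by decide)
          · rw [h, huw] at h1; exact absurd h1 (by decide)
          · rw [h, Bf_add, hvv, huw] at h1; exact absurd h1 (by decide)
        have h0 : k p + p = 0 := hd.symm.trans hd'
        rwa [add_eq_zero_iff_eq_neg, neg_eq_of_add_eq_zero_right (add_self_W p)] at h0
      · exfalso
        let f : W → ZMod 2 × ZMod 2 × ZMod 2 × ZMod 2 := fun p =>
          (Bf vS p, Bf u p, Bf vS (wW p), Bf u (wW p))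
        obtain ⟨p, p', hne, he⟩ := Fintype.exists_ne_map_eq_of_card_lt f (by simp)
        simp only [f, Prod.mk.injEq] at he
        obtain ⟨e1, e2, e3, e4⟩ := he
        have hh : ∀ a : ZMod 2, a + a = 0 := by decide
        set s := p + p'
        have k1 : k s = s := hfixS s (by rw [Bf_add_right, e1, hh]) (by rw [Bf_add_right, e2, hh])
        have k2 : k (wW s) = wW s := hfixS _ (by rw [wW_add, Bf_add_right, e3, hh])
          (by rw [wW_add, Bf_add_right, e4, hh])
        rw [hk, hs, ← hk, k1] at k2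
        refine wW_twice_ne s (fun h0 => hne ?_) k2
        rwa [add_eq_zero_iff_eq_neg, neg_eq_of_add_eq_zero_right (add_self_W p')] at h0
    have hzQ : (⟨z', hz'C⟩ : Subgroup.centralizer ({z} : Set G)) ∈ Q :=
      D.ker.le (MonoidHom.mem_ker.2 hk1)
    have hz'eq : z' = z := by
      by_contra hne
      have hl := lab_of_isConj hF D hzQ (isConj_iff.2 ⟨g, rfl⟩) hne
      have hP := dual (D.Φ ⟨z', hz'C⟩) fun s h1 h2 => by
        obtain ⟨p, hp, rfl⟩ := D.surj s
        exact (D.comm _ hzQ p hp).1 (Subtype.ext (hmemR p hp h1 h2).symm.eq)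
      rcases hP with h | h | h | h <;> rw [h] at hl
      · exact absurd hl (by decide)
      · rw [vS_facts.1] at hl; omega
      · rw [hu.l1] at hl; omega
      · rw [add_comm, hu.l2] at hl; omega
    exact Subgroup.mem_subgroupOf.2 (Subgroup.mem_centralizer_singleton_iff.2
      (mul_inv_eq_iff_eq_mul.1 hz'eq))
  refine key.trans ?_
  show S.mov y = _
  refine if_neg fun h => ?_
  have e : D.Φ (x * S.t' * x⁻¹) = D.Φ S.t' := by rw [← D.conj x _ S.ht'Q, D.rho_Q hx]; rfl
  have h2 := (D.comm x hx _ S.ht'Q).1 (mul_inv_eq_iff_eq_mul.1 (S.eq_of_phi h S.t'_mem e))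
  rw [hxΦ, S.ht'Φ, Bf_comm, hu.move] at h2
  exact absurd h2 (by decide)

end Dat

end H80.Fi24T
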