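import Cfsg.Agent.H80.Fi24T.Fixed
import Cfsg.Agent.H7.Fi24L.Main

/-!
An element inducing an automorphism of the four-group outside the kernel of the transfer.
-/

set_option autoImplicit false
set_option maxRecDepth 100000
set_option linter.unusedSectionVars false

namespace H80.Fi24T

open H16.Fi24 H7.Fi24L Cfsg

universe u

variable {G : Type u} [Group G] [Finite G] {z : G}
  {Q : Subgroup (Subgroup.centralizer ({z} : Set G))} [Q.Normal] {D : Model z Q} (P : Pt D)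
  (hF : IsOfLargeFischerTypeAt z Q)

theorem att_fix {c : Subgroup.centralizer ({z} : Set G)} (hF : IsOfLargeFischerTypeAt z Q)
    (hc : c ∈ att Q P.ga) : D.ρ c u0 = u0 := by
  rw [← P.haΦ, D.conj c _ P.haQ, (P.fused hF).comm_s c hc]

/-- The linear part of the image of the attached group. -/
theorem att_inf_K0 (hF : IsOfLargeFischerTypeAt z Q) :
    (att Q P.ga).map D.ρ ⊓ K0 = Nn ∧ Nat.card ((att Q P.ga).map D.ρ) ≤ 32 := by
  classical
  have hA := P.fused hF
  set E := (att Q P.ga).map D.ρ with hEdef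
  have hfixE : ∀ e ∈ E, e u0 = u0 := fun e he => P.haΦ ▸ hA.image_fix D P.haQ e he
  have hle : E ⊓ K0 ≤ Nn := by
    refine le_Nn_of_normal D.card_K0 _ (fun e he => ⟨he.2, hfixE e he.1⟩) ?_ ?_
    · intro e
      exact ⟨1, Subtype.ext (by rw [Subgroup.coe_pow, pow_one, pow_two]; exact hA.image_sq D e.1 e.2.1)⟩
    · intro k hk e he
      obtain ⟨m, -, hm⟩ := D.exists_rho hk.1
      exact ⟨hA.image_norm D P.haQ (by rw [P.haΦ]; exact u0_ne) ⟨m, hm⟩ (P.haΦ ▸ hk.2) he.1,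
        K0.mul_mem (K0.mul_mem hk.1 he.2) (K0.inv_mem hk.1)⟩
  have h2 := D.card_le_two_mul E (by rintro - ⟨x, -, rfl⟩; exact ⟨x, rfl⟩)
  have h16 := Subgroup.card_le_of_le hle
  have h32 : 32 ≤ Nat.card E := hA.image_ge D
  have hN := (structure_stab D.card_K0).1
  exact ⟨Subgroup.eq_of_le_of_card_ge hle (by omega), by omega⟩

include hF in
/-- The intersection with the attached group. -/
theorem mem_Qa {x : Subgroup.centralizer ({z} : Set G)} (hx : x ∈ Q) :
    (x : G) ∈ Qf (P.a : G) ↔ inS (D.Φ x) := by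
  classical
  have L := largeExtra hF
  have hA := P.fused hF
  have hsa : H99.LargeExtra.Sing z (P.a : G) := ⟨P.ga, P.hga⟩
  have fwd : ∀ x : Subgroup.centralizer ({z} : Set G), x ∈ Q → (x : G) ∈ Qf (P.a : G) →
      inS (D.Φ x) := by
    intro x hx hxa
    refine ⟨⟨?_, ?_⟩, fun s hs => ?_⟩
    · rw [← P.haΦ]
      exact (D.comm x hx _ P.haQ).1 (Subtype.ext (L.commute_of_mem hxa))
    · rw [← P.hbΦ]
      refine (D.comm x hx _ P.hbQ).1 (mul_inv_eq_iff_eq_mul.1 (Subtype.ext ?_))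
      rcases L.comm_cases hsa hxa (P.b_mem hF) with h | h
      · exact h
      · have e : D.Φ (x * P.b * x⁻¹) = D.Φ P.b := by rw [← D.conj x _ P.hbQ, D.rho_Q hx]; rfl
        rcases D.eq_or_mul (Subgroup.Normal.conj_mem inferInstance _ P.hbQ x) P.hbQ e with h' | h'
        · exact h'
        · exact absurd (mul_left_cancel (h.symm.trans h')) P.a_ne
    · obtain ⟨hn, hne⟩ := nf_mem hs
      rw [← (att_inf_K0 P hF).1] at hn
      obtain ⟨c, hc, hcn⟩ := hn.1
      have hca : (c : G) ∈ Qf (P.a : G) := by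
        have := (mem_att hF _ _).1 hc
        rwa [P.hga] at this
      rw [← hne, ← hcn, D.conj c x hx]
      rcases L.comm_cases hsa hca hxa with h | h
      · left
        rw [show c * x * c⁻¹ = x from Subtype.ext h, add_self_W]
      · right
        rw [show c * x * c⁻¹ = x * P.a from Subtype.ext h, D.map_mul x hx _ P.haQ, P.haΦ, add_comm,
          ← add_assoc, add_self_W, zero_add]
  refine ⟨fwd x hx, fun h => ?_⟩
  set A := up Q ⊓ (up Q).map (MulAut.conj P.ga).toMonoidHom with hAdef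
  have hQa : Qf (P.a : G) = (up Q).map (MulAut.conj P.ga).toMonoidHom := by rw [← P.hga, Qf_conj hF]
  have hle : A ≤ preW D SSub := by
    rintro y ⟨hy1, hy2⟩
    obtain ⟨p, hp, rfl⟩ := hy1
    exact (mem_preW D).2 ⟨p, hp, rfl, fwd p hp (hQa ▸ hy2)⟩
  have hcard : Nat.card (preW D SSub) ≤ Nat.card A := by
    rw [card_preW D hF.1.1, card_SSub]
    have h1 := hA.card_image D
    have h2 := (att_inf_K0 P hF).2
    rw [← hAdef] at h1
    by_contra hn
    have h3 := Nat.mul_le_mul h2 (show Nat.card A ≤ 127 by omega)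
    norm_num at h1 h3
    omega
  have heq := Subgroup.eq_of_le_of_card_ge hle hcard
  have : (x : G) ∈ A := heq ▸ (mem_preW D).2 ⟨x, hx, rfl, h⟩
  exact hQa ▸ this.2

variable (S : Dat D)

include P hF in
/-- An element of the centraliser moving the four-group, with nontrivial transfer. -/
theorem Dat.exists_swapper : ∃ y : S.X, S.V y = Multiplicative.ofAdd 1 ∧
    (y : G) * S.t' * (y : G)⁻¹ = (S.t : G) * S.t' := by
  classical
  have L := largeExtra hF
  have hz : z * z = 1 := L.zsq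
  have hQz : Qf z = up Q := Qf_z hF
  have hsa : H99.LargeExtra.Sing z (P.a : G) := ⟨P.ga, P.hga⟩
  have hzV : z ∈ Pt.V (D := D) := Pt.z_mem
  have hazV : (P.a : G) * z ∈ Pt.V (D := D) := mul_mem P.a_mem hzV
  have haz1 : (P.a : G) * z ≠ 1 := fun h => P.a_ne (by
    rw [mul_eq_one_iff_eq_inv, inv_eq_of_mul_eq_one_right hz] at h; exact h)
  have hz1 : z ≠ 1 := fun h => by
    have := hF.1.1
    rw [h, orderOf_one] at this
    omega
  -- an element exchanging the two points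
  obtain ⟨g, hg, hgH, hgz⟩ := L.exists_move (t := (P.a : G) * z) (P.sing hF hazV haz1)
    (H := Subgroup.zpowers ((P.a : G) * z)) (Subgroup.mem_zpowers _)
    (Subgroup.zpowers_le.2 (L.self_mem (P.sing hF hazV haz1))) (v := z) (P.orth hF hazV hzV haz1) (by
      intro h
      obtain ⟨i, hi⟩ := h
      change ((P.a : G) * z) ^ i = z at hi
      have hsq : ((P.a : G) * z) * ((P.a : G) * z) = 1 := Pt.V_sq hF hazV
      obtain ⟨j, rfl | rfl⟩ := Int.even_or_odd' i
      · have : z = 1 := by rw [← hi, zpow_mul, zpow_two, hsq, one_zpow]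
        exact hz1 this
      · have : (P.a : G) * z = z := by
          rw [zpow_add, zpow_mul, zpow_two, hsq, one_zpow, one_mul, zpow_one] at hi
          exact hi
        have h2 : (P.a : G) = 1 := mul_eq_right.1 this
        exact u0_ne (P.haΦ.symm.trans ((D.eq_zero _ P.haQ).2 (Or.inl h2))))
  have hga : g * z * g⁻¹ = (P.a : G) := by
    rw [hgz, ← mul_assoc, Subgroup.mem_centralizer_singleton_iff.1 P.a.2 |>.symm, mul_assoc, hz, mul_one]
  have hgaz : g * ((P.a : G) * z) * g⁻¹ = (P.a : G) * z := by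
    rw [(hgH _ (Subgroup.mem_zpowers _)).eq, mul_inv_cancel_right]
  have hgai : g * (P.a : G) * g⁻¹ = z := by
    have : g * (P.a : G) * g⁻¹ = g * ((P.a : G) * z) * g⁻¹ * (g * z * g⁻¹) :=
      calc g * (P.a : G) * g⁻¹ = g * ((P.a : G) * (z * z)) * g⁻¹ := by rw [hz, mul_one]
        _ = _ := by group
    rw [this, hgaz, hga, Subgroup.mem_centralizer_singleton_iff.1 P.a.2, mul_assoc,
      show (P.a : G) * P.a = 1 from Pt.V_sq hF P.a_mem, mul_one]
  have hgb : g⁻¹ * (P.b : G) * g ∈ Pt.V (D := D) := by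
    rcases L.comm_cases (P.sing hF hazV haz1) (inv_mem hg) (P.orth hF hazV P.b_mem_V haz1) with h | h <;>
      rw [inv_inv] at h <;> rw [h]
    · exact P.b_mem_V
    · exact mul_mem P.b_mem_V hazV
  -- the image of the involution
  have htS : inS (D.Φ S.t) := by rw [S.htΦ, ← inSb_iff]; exact vS_facts.2.1
  have hta : (S.t : G) ∈ Qf (P.a : G) := (mem_Qa P hF S.htQ).2 htS
  have ht1z : g⁻¹ * (S.t : G) * g ∈ Qf z := by
    rw [← hga] at hta
    exact L.mem_Q_conj' g hta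
  rw [hQz] at ht1z
  obtain ⟨t1, ht1Q, ht1⟩ := ht1z
  have ht1' : (t1 : G) = g⁻¹ * (S.t : G) * g := ht1
  have ht1a : (t1 : G) ∈ Qf (P.a : G) := by
    rw [ht1']
    refine L.mem_Q_conj' g ?_
    rw [hgai, hQz]
    exact mem_up.2 S.htQ
  set v1 := D.Φ t1 with hv1
  have hv1S : inS v1 := (mem_Qa P hF ht1Q).1 ht1a
  have hgt : g * (t1 : G) * g⁻¹ = S.t := by rw [ht1']; group
  have hnc : ¬ IsConj z (t1 : G) := by
    intro h
    obtain ⟨i, hi⟩ := isConj_iff.1 h
    have h3 := lab_of_isConj hF D S.htQ (isConj_iff.2 ⟨g * i, by rw [← hgt, ← hi]; group⟩) S.t_ne.2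
    rw [S.htΦ, vS_facts.1] at h3
    omega
  have ht1ne : (t1 : G) ≠ z := fun h => hnc (isConj_iff.2 ⟨1, by simp [h]⟩)
  have hlab1 : lab v1 = 2 := by
    have ho : orderOf t1 = 2 := by
      have := Fact.mk Nat.prime_two
      refine orderOf_eq_prime ?_ fun h => ?_
      · refine Subtype.ext ?_
        rw [Subgroup.coe_pow, pow_two, ht1']
        calc g⁻¹ * (S.t : G) * g * (g⁻¹ * (S.t : G) * g) = g⁻¹ * ((S.t : G) * S.t) * g := by group
          _ = 1 := by rw [S.t_sq]; group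
      · refine S.t_ne.1 ?_
        rw [← hgt, h, Subgroup.coe_one, mul_one, mul_inv_cancel]
    have h2 := D.lab_involution ht1Q ho ht1ne
    rw [← hv1] at h2
    have h3 := (lab_cases v1).2.1
    by_contra hne
    exact hnc ((isConj_iff_lab hF D ht1Q ht1ne).2 (by rw [← hv1]; omega))
  obtain ⟨h, hh⟩ := D.conj_of_lab S.htQ ht1Q (by rw [S.htΦ, vS_facts.1]) (by
    rw [← hv1, hlab1, S.htΦ, vS_facts.1])
  set x1 := h * S.t' * h⁻¹ with hx1def
  have hx1Q : x1 ∈ Q := Subgroup.Normal.conj_mem inferInstance _ S.ht'Q h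
  have hx1 : D.Φ x1 = wW v1 ∨ D.Φ x1 = wW (wW v1) := by
    rw [hx1def, ← D.conj h _ S.ht'Q, S.ht'Φ, hv1, ← hh, ← D.conj h _ S.htQ, S.htΦ]
    exact D.scal h |>.imp (fun e => e _) (fun e => e _)
  have hperp : ∀ l, inU l → Bf (D.Φ x1) l = 0 := by
    intro l hl
    have hb : ∀ m, inU m → Bf v1 m = 0 := by
      rintro m (rfl | rfl | rfl | rfl)
      · rw [Bf_comm, Bf_zero]
      · exact hv1S.1.1
      · exact hv1S.1.2
      · rw [Bf_add_right, hv1S.1.1, hv1S.1.2, add_zero]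
    rw [Bf_comm]
    rcases hx1 with e | e <;> rw [e]
    · rw [Bf_wW_shift, Bf_comm]; exact hb _ (wW_inU (wW_inU hl))
    · rw [Bf_wW_shift, Bf_wW_shift, Bf_comm]
      exact hb _ (wW_inU (wW_inU (wW_inU (wW_inU hl))))
  have hx1V : ∀ w ∈ Pt.V (D := D), (x1 : G) * w = w * x1 := by
    intro w hw
    obtain ⟨p, hp, rfl, hU⟩ := (mem_preW D).1 hw
    exact congrArg Subtype.val ((D.comm _ hx1Q _ hp).2 (hperp _ hU))
  have hfix : ∀ w, g⁻¹ * w * g ∈ Pt.V (D := D) →
      g * (x1 : G) * g⁻¹ * w = w * (g * (x1 : G) * g⁻¹) := by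
    intro w hw
    calc g * (x1 : G) * g⁻¹ * w = g * ((x1 : G) * (g⁻¹ * w * g)) * g⁻¹ := by group
      _ = g * ((g⁻¹ * w * g) * x1) * g⁻¹ := by rw [hx1V _ hw]
      _ = _ := by group
  let e : Subgroup.centralizer ({z} : Set G) := ⟨g * (x1 : G) * g⁻¹,
    Subgroup.mem_centralizer_singleton_iff.2 (hfix z (by
      rw [show g⁻¹ * z * g = (P.a : G) from (by
        have h1 : g⁻¹ * (g * (P.a : G) * g⁻¹) * g = (P.a : G) := by group
        rwa [hgai] at h1)]
      exact P.a_mem))⟩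
  have heb : e * P.b * e⁻¹ = P.b := mul_inv_eq_iff_eq_mul.2 (Subtype.ext (hfix _ hgb))
  have hea : (e : G) ∈ Qf (P.a : G) := by
    rw [← hga]
    exact L.mem_Q_conj g (hQz.symm ▸ mem_up.2 hx1Q)
  have heatt : e ∈ att Q P.ga := (mem_att hF _ _).2 (P.hga.symm ▸ hea)
  have heQ : e ∉ Q := fun he => by
    have h1 : g * (x1 : G) * g⁻¹ ∈ Qf (g * (P.a : G) * g⁻¹) := by
      rw [hgai, hQz]; exact mem_up.2 he
    have h2 := L.mem_Q_conj' g h1
    rw [show g⁻¹ * (g * (x1 : G) * g⁻¹) * g = x1 by group] at h2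
    have h3 := (inSb_iff _).2 ((mem_Qa P hF hx1Q).1 h2)
    have h4 := line_check v1 ((inSb_iff _).2 hv1S) hlab1
    rcases hx1 with e' | e' <;> rw [e'] at h3
    · rw [h4.1] at h3; exact absurd h3 (by decide)
    · rw [h4.2] at h3; exact absurd h3 (by decide)
  have he0 : D.ρ e u0 = u0 := att_fix P hF heatt
  have he1 : D.ρ e u1 = u1 := by rw [← P.hbΦ, D.conj e _ P.hbQ, heb]
  have heM : e ∈ D.M := by
    by_contra hc
    obtain ⟨o, ho, hou⟩ := P.exists_outer hF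
    have ho0 : D.ρ o u0 = u0 := att_fix P hF ((mem_att hF _ _).2 (P.hga.symm ▸ ho))
    by_cases hoM : o ∈ D.M
    · have h2 : D.ρ o u1 = u1 := by
        rw [u1, (isUni_K0 (D.rho_mem o hoM)).wcomm, ho0]
      rw [hou] at h2
      exact u0_ne (add_eq_right.1 h2)
    · have hm : e * o ∈ D.M :=
        (Subgroup.mul_mem_iff_of_index_two D.index_M).2 (iff_of_false hc hoM)
      have h2 : D.ρ (e * o) u1 = u1 := by
        have h := (isUni_K0 (D.rho_mem _ hm)).wcomm u0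
        rw [show wW u0 = u1 from rfl] at h
        rw [h, _root_.map_mul, Equiv.Perm.mul_apply, ho0, he0]
        rfl
      rw [_root_.map_mul, Equiv.Perm.mul_apply, hou, D.rho_add, he0, he1] at h2
      exact u0_ne (add_eq_right.1 h2)
  have hkN : D.ρ e ∈ Nn := by
    rw [← (att_inf_K0 P hF).1]
    exact ⟨⟨e, heatt, rfl⟩, D.rho_mem e heM⟩
  obtain ⟨s, hs, hks⟩ : ∃ s ∈ sigs, ∀ v, D.ρ e v = nf s v := by
    rcases nList_apply (mem_nList D.card_K0 hkN) with h1 | h1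
    · exact absurd (D.ker.le (MonoidHom.mem_ker.2 h1)) heQ
    · exact h1
  have het : e * S.t * e⁻¹ = S.t := by
    refine mul_inv_eq_iff_eq_mul.2 (Subtype.ext ?_)
    have h0 : (x1 : G) * t1 = (t1 : G) * x1 := by
      refine congrArg Subtype.val ((D.comm _ hx1Q _ ht1Q).2 ?_)
      rw [← hv1]
      have hq : ∀ x : W, qf (wW x) = qf x := fun x => (isUni_mono 1 fun _ => 1).q x
      have hb : Bf v1 (wW v1) = 0 := by
        rw [Bf, ← wW_two, hq, hq, qf_of_lab (by rw [hlab1])]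
        decide
      rcases hx1 with e' | e' <;> rw [e', Bf_comm]
      · exact hb
      · rw [wW_two, Bf_add_right, Bf_self, hb, add_zero]
    show g * (x1 : G) * g⁻¹ * S.t = (S.t : G) * (g * (x1 : G) * g⁻¹)
    rw [← hgt]
    calc g * (x1 : G) * g⁻¹ * (g * (t1 : G) * g⁻¹) = g * ((x1 : G) * t1) * g⁻¹ := by group
      _ = g * ((t1 : G) * x1) * g⁻¹ := by rw [h0]
      _ = _ := by group
  have hkv : nf s vS = vS := by rw [← hks, ← S.htΦ, D.conj e _ S.htQ, het]
  -- commutators with the part of the extraspecial group fixing both points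
  have comm : ∀ p : Subgroup.centralizer ({z} : Set G), p ∈ Q → Bf (D.Φ p) u0 = 0 →
      Bf (D.Φ p) vS = 0 → ∃ m ∈ Q, (p : G) * (e : G) * (p : G)⁻¹ = (e : G) * (m : G) ∧
        ((m : G) = 1 ∧ D.Φ m = 0 ∨ (m : G) = P.a ∧ D.Φ m = u0 ∨ (m : G) = S.t ∧ D.Φ m = vS ∨
          (m : G) = (S.t : G) * P.a ∧ D.Φ m = vS + u0) := by
    intro p hp hp0 hpv
    have hpa : (p : G) * P.a = P.a * p :=
      congrArg Subtype.val ((D.comm p hp _ P.haQ).2 (P.haΦ.symm ▸ hp0))
    have hpt : (p : G) * S.t = S.t * p :=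
      congrArg Subtype.val ((D.comm p hp _ S.htQ).2 (S.htΦ.symm ▸ hpv))
    have hp'z : g⁻¹ * (p : G) * g * z = z * (g⁻¹ * (p : G) * g) := by
      have hza : g⁻¹ * (P.a : G) * g = z := by
        calc g⁻¹ * (P.a : G) * g = g⁻¹ * (g * z * g⁻¹) * g := by rw [hga]
          _ = z := by group
      calc g⁻¹ * (p : G) * g * z = g⁻¹ * (p : G) * g * (g⁻¹ * (P.a : G) * g) := by rw [hza]
        _ = g⁻¹ * ((p : G) * P.a) * g := by group
        _ = g⁻¹ * ((P.a : G) * p) * g := by rw [hpa]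
        _ = g⁻¹ * (P.a : G) * g * (g⁻¹ * (p : G) * g) := by group
        _ = _ := by rw [hza]
    set p' : Subgroup.centralizer ({z} : Set G) :=
      ⟨g⁻¹ * (p : G) * g, Subgroup.mem_centralizer_singleton_iff.2 hp'z⟩ with hp'def
    have hp't : p' * t1 * p'⁻¹ = t1 := by
      refine mul_inv_eq_iff_eq_mul.2 (Subtype.ext ?_)
      show g⁻¹ * (p : G) * g * (t1 : G) = (t1 : G) * (g⁻¹ * (p : G) * g)
      rw [ht1']
      calc g⁻¹ * (p : G) * g * (g⁻¹ * (S.t : G) * g) = g⁻¹ * ((p : G) * S.t) * g := by group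
        _ = g⁻¹ * ((S.t : G) * p) * g := by rw [hpt]
        _ = _ := by group
    have hfix1 : D.ρ p' v1 = v1 := by rw [hv1, D.conj p' _ ht1Q, hp't]
    have hy : p' * x1 * p'⁻¹ ∈ Q := Subgroup.Normal.conj_mem inferInstance _ hx1Q p'
    obtain ⟨m1, hm1Q, hm1, hm1'⟩ : ∃ m1 ∈ Q, D.Φ (x1 * m1) = D.Φ (p' * x1 * p'⁻¹) ∧
        (m1 = 1 ∨ m1 = t1) := by
      have hd : D.ρ p' (D.Φ x1) = D.Φ x1 ∨ D.ρ p' (D.Φ x1) = D.Φ x1 + v1 := by
        rcases D.scal p' with hsc | hsc <;> rcases hx1 with e' | e' <;> rw [e']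
        · exact Or.inl (by rw [hsc, hfix1])
        · exact Or.inl (by rw [hsc, hsc, hfix1])
        · exact Or.inr (by rw [hsc, hfix1, wW_two, add_comm])
        · exact Or.inr (by
            rw [hsc, hsc, hfix1, wW_three, wW_two, add_comm v1 (wW v1), add_assoc, add_self_W, add_zero])
      rw [← D.conj p' x1 hx1Q]
      rcases hd with e' | e' <;> rw [e']
      · exact ⟨1, one_mem _, by rw [mul_one], Or.inl rfl⟩
      · exact ⟨t1, ht1Q, D.map_mul _ hx1Q _ ht1Q, Or.inr rfl⟩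
    have hcases := D.eq_or_mul hy (mul_mem hx1Q hm1Q) hm1.symm
    have key : (p : G) * (e : G) * (p : G)⁻¹ = g * ((p' * x1 * p'⁻¹ : _) : G) * g⁻¹ := by
      simp only [Subgroup.coe_mul, Subgroup.coe_inv, e, hp'def]
      group
    rcases hcases with hc | hc <;> rcases hm1' with rfl | rfl
    · exact ⟨1, one_mem _, by rw [key, hc]; simp [e], Or.inl ⟨rfl, phi_one D⟩⟩
    · refine ⟨S.t, S.htQ, ?_, Or.inr (Or.inr (Or.inl ⟨rfl, S.htΦ⟩))⟩
      rw [key, hc, ← hgt]
      simp [e, mul_assoc]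
    · refine ⟨P.a, P.haQ, ?_, Or.inr (Or.inl ⟨rfl, P.haΦ⟩)⟩
      rw [key, hc, ← hga]
      simp [e, mul_assoc]
    · refine ⟨S.t * P.a, mul_mem S.htQ P.haQ, ?_, Or.inr (Or.inr (Or.inr ⟨rfl, by
        rw [D.map_mul _ S.htQ _ P.haQ, S.htΦ, P.haΦ]⟩))⟩
      rw [key, hc]
      simp only [Subgroup.coe_mul]
      rw [← hgt, ← hga]
      simp [e, mul_assoc]
  have commΦ : ∀ p : Subgroup.centralizer ({z} : Set G), p ∈ Q → ∀ m ∈ Q,
      (p : G) * (e : G) * (p : G)⁻¹ = (e : G) * (m : G) → D.ρ e (D.Φ p) + D.Φ p = D.Φ m := by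
    intro p hp m hm hpe
    have hee : e * e = 1 := by
      refine Subtype.ext ?_
      show g * (x1 : G) * g⁻¹ * (g * (x1 : G) * g⁻¹) = 1
      have h0 : (x1 : G) * x1 = 1 := congrArg Subtype.val ((D.sq _ hx1Q).2 (by
        have hq : ∀ x : W, qf (wW x) = qf x := fun x => (isUni_mono 1 fun _ => 1).q x
        rcases hx1 with e' | e' <;> rw [e'] <;> simp only [hq] <;> exact qf_of_lab (by rw [hlab1])))
      calc _ = g * ((x1 : G) * x1) * g⁻¹ := by group
        _ = 1 := by rw [h0]; group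
    have hei : e⁻¹ = e := inv_eq_of_mul_eq_one_right hee
    have hpe' : p * e * p⁻¹ = e * m := Subtype.ext hpe
    have h1 : e * p * e⁻¹ = m * p := by
      have h2 : m = e⁻¹ * (p * e * p⁻¹) := by rw [hpe', inv_mul_cancel_left]
      rw [h2, hei]
      group
    rw [D.conj e p hp, h1, D.map_mul m hm p hp, add_assoc, add_self_W, add_zero]
  -- the element
  obtain ⟨hl, hl', huv, hmove, hu0, hy0, hyv⟩ := uS_facts
  obtain ⟨py, hpy, hpyΦ⟩ := D.surj yS
  obtain ⟨my, hmy, hpe, hmc⟩ := comm py hpy (hpyΦ ▸ hy0) (hpyΦ ▸ hyv)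
  have hcy := commΦ py hpy my hmy hpe
  rw [hks, hpyΦ] at hcy
  have huS := uS_check s hs hkv (by
    rcases hmc with ⟨-, h'⟩ | ⟨-, h'⟩ | ⟨-, h'⟩ | ⟨-, h'⟩ <;> rw [h'] at hcy
    · exact Or.inl hcy
    · exact Or.inr (Or.inl hcy)
    · exact Or.inr (Or.inr (Or.inl hcy))
    · exact Or.inr (Or.inr (Or.inr (hcy.trans (add_comm _ _)))))
  obtain ⟨q, hq, hqΦ⟩ := D.surj uS
  obtain ⟨mq, hmq, hqe, hmc'⟩ := comm q hq (hqΦ ▸ hu0) (by rw [hqΦ, Bf_comm]; exact huv)
  have hcq := commΦ q hq mq hmq hqe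
  rw [hks, hqΦ, huS, add_comm uS vS, add_assoc, add_self_W, add_zero] at hcq
  have hmt : (mq : G) = S.t := by
    have hne : vS ≠ 0 ∧ vS ≠ u0 ∧ vS ≠ vS + u0 := by decide +kernel
    rcases hmc' with ⟨-, h'⟩ | ⟨-, h'⟩ | ⟨h', -⟩ | ⟨-, h'⟩
    · exact absurd (hcq.trans h') hne.1
    · exact absurd (hcq.trans h') hne.2.1
    · exact h'
    · exact absurd (hcq.trans h') hne.2.2
  rw [hmt] at hqe
  set f : G := g * (h : G) with hf
  have hft : f * S.t * f⁻¹ = S.t := by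
    rw [hf]
    calc g * (h : G) * S.t * (g * (h : G))⁻¹ = g * ((h * S.t * h⁻¹ : _) : G) * g⁻¹ := by
          simp [mul_assoc]
      _ = S.t := by rw [hh, hgt]
  have hfe : f * S.t' * f⁻¹ = e := by
    simp [hf, e, hx1def, mul_assoc]
  have hfX : f ∈ S.X := Subgroup.mem_centralizer_singleton_iff.2 (mul_inv_eq_iff_eq_mul.1 hft)
  have hqX : (q : G) ∈ S.X := Subgroup.mem_centralizer_singleton_iff.2
    (congrArg Subtype.val ((D.comm q hq _ S.htQ).2 (by rw [hqΦ, S.htΦ, Bf_comm]; exact huv)))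
  have hVq := S.V_eq hF hq ⟨hl, hl', huv, hmove⟩ hqΦ hqX
  refine ⟨⟨f, hfX⟩⁻¹ * ⟨q, hqX⟩ * ⟨f, hfX⟩, ?_, ?_⟩
  · rw [map_mul, map_mul, map_inv, mul_comm (S.V ⟨f, hfX⟩)⁻¹, inv_mul_cancel_right, hVq]
  · show f⁻¹ * (q : G) * f * S.t' * (f⁻¹ * (q : G) * f)⁻¹ = (S.t : G) * S.t'
    calc f⁻¹ * (q : G) * f * S.t' * (f⁻¹ * (q : G) * f)⁻¹
        = f⁻¹ * ((q : G) * (f * S.t' * f⁻¹) * (q : G)⁻¹) * f := by group
      _ = f⁻¹ * ((f * S.t' * f⁻¹) * (f * S.t * f⁻¹)) * f := by rw [hfe, hqe, hft]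
      _ = (S.t' : G) * S.t := by group
      _ = _ := S.comm_tt'.symm

end H80.Fi24T
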